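import Groth.Agent.BCA.Chain
import Groth.Agent.TorBC.Main

/-!
The canonical base change morphism is invertible on quasi-coherent objects of a Tor independent square.
-/

set_option autoImplicit false
set_option backward.isDefEq.respectTransparency false
set_option backward.isDefEq.respectTransparency.types false
set_option linter.style.haveILetI false
set_option linter.unusedSectionVars false
set_option maxHeartbeats 1000000

universe u

open CategoryTheory Limits AlgebraicGeometry HomologicalComplex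

attribute [local instance] HasDerivedCategory.standard

namespace Groth.Agent.BCA

open Groth.Agent.KFlat Groth.Agent.ProjForm Groth.Agent.TorBC Groth.Agent.FlatBCD

/-- quasi-isomorphisms of K-flat complexes pull back to quasi-isomorphisms -/
lemma quasiIso_qC {X Y : Scheme.{u}} (f : X ⟶ Y) {A B : CochainComplex Y.Modules ℤ} (hA : DCoh.IsKFlat A)
    (hB : DCoh.IsKFlat B) (a : A ⟶ B) [QuasiIso a] : QuasiIso ((qC f).map a) := by
  haveI := KFlat.hasLpull f
  refine (DerivedCategory.isIso_Q_map_iff_quasiIso _ _).1 ?_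
  have h := (DQCoh.lpullCounit f).naturality a
  haveI : IsIso ((DQCoh.lpullCounit f).app A) := (ProjForm.lpullIso f hA).isIso_hom
  haveI : IsIso ((DQCoh.lpullCounit f).app B) := (ProjForm.lpullIso f hB).isIso_hom
  haveI : IsIso ((DerivedCategory.Q ⋙ DCoh.Lpull f).map a) :=
    inferInstanceAs (IsIso ((DCoh.Lpull f).map (DerivedCategory.Q.map a)))
  exact IsIso.of_isIso_fac_left h.symm

variable {X S X' S' : Scheme.{u}} {f : X ⟶ S} {g₀ : S' ⟶ S} {g' : X' ⟶ X} {f' : X' ⟶ S'}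

/-- the Tor independence of the square, on complexes -/
def LocHyp (_ : IsPullback g' f' f g₀) : Prop :=
  ∀ (L : CochainComplex X.Modules ℤ), DCoh.IsKFlat L → (∀ i, Coh.IsQCoh (L.homology i)) →
    ∀ {N : CochainComplex X.Modules ℤ} (l : L ⟶ N) [QuasiIso l]
      {J : CochainComplex X'.Modules ℤ} [J.IsKInjective] (π : N ⟶ (pC g').obj J) [QuasiIso (flat' g' (l ≫ π))]
      {Vs Xs Ws Ys : Scheme.{u}} (jV : Vs ⟶ S) (jX : Xs ⟶ X) (jW : Ws ⟶ S') (jY : Ys ⟶ X')
      [IsOpenImmersion jV] [IsOpenImmersion jX] [IsOpenImmersion jW] [IsOpenImmersion jY]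
      (fV : Xs ⟶ Vs) (gW : Ws ⟶ Vs) (gY : Ys ⟶ Xs) (fY : Ys ⟶ Ws) [IsAffine Vs] [IsAffine Ws]
      [QuasiCompact fV] [QuasiSeparated fV]
      (HW : IsPullback gY fY fV gW) (_ : fV ≫ jV = jX ≫ f) (wg' : gY ≫ jX = jY ≫ g')
      (_ : gW ≫ jV = jW ≫ g₀) (_ : jX.opensRange = f ⁻¹ᵁ jV.opensRange),
      ∃ (P : CochainComplex Vs.Modules ℤ) (p : P ⟶ sg ((Scheme.Modules.pushforward gW).obj (OO Ws))),
        DCoh.IsKFlat P ∧ QuasiIso p ∧ QuasiIso (tMap HW.w p (resC wg' π))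

/-- the canonical base change morphism is invertible -/
theorem isIso_bc [DCoh.HasRpush f] [DCoh.HasRpush g₀] [DCoh.HasLpull g₀] [DCoh.HasRpush f'] [DCoh.HasRpush g']
    [DCoh.HasLpull g'] [QuasiCompact f] [QuasiSeparated f] (H : IsPullback g' f' f g₀)
    (e : DCoh.Rpush g' ⋙ DCoh.Rpush f ≅ DCoh.Rpush f' ⋙ DCoh.Rpush g₀)
    (he : tau' (f := f) (g' := g') ≫ Functor.whiskerLeft DerivedCategory.Qh e.hom = tau'' H.w)
    (hloc : LocHyp H) (E : DCoh.D X) (hE : DCoh.IsQCohD E) :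
    IsIso (DCoh.baseChangeApp (adjD g₀) (adjD g') e E) := by
  obtain ⟨L, hL, -, ⟨ε⟩⟩ := KFlat.exists_isKFlat_rep E
  have hLq : ∀ i, Coh.IsQCoh (L.homology i) := fun i =>
    QC.isQCoh_of_iso ((DerivedCategory.homologyFunctor _ i).mapIso ε.symm ≪≫ hdIso L i) (hE i)
  obtain ⟨I, σ₀, hI, hσ₀⟩ := DerPush.exists_kInj_sch L
  obtain ⟨J, t, hJ, ht⟩ := DerPush.exists_kInj_sch ((qC g').obj L)
  let β : L ⟶ (pC g').obj J :=
    (KInj.mapHomologicalComplexAdj (Scheme.Modules.pullbackPushforwardAdjunction g') (ComplexShape.up ℤ)).homEquiv L J t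
  have hβ : flat' g' β = t := Equiv.symm_apply_apply _ _
  obtain ⟨J₂, ψ, hJ₂, hψ⟩ := DerPush.exists_kInj_sch ((pC g').obj J)
  obtain ⟨k, hk⟩ := KInj.Q_map_surjective (K := I) (I := J₂)
    (inv (DerivedCategory.Q.map σ₀) ≫ DerivedCategory.Q.map (β ≫ ψ))
  have hk' : DerivedCategory.Q.map (β ≫ ψ) = DerivedCategory.Q.map (σ₀ ≫ k) := by
    rw [Functor.map_comp _ σ₀, hk, IsIso.hom_inv_id_assoc]
  obtain ⟨Hk⟩ := KInj.nonempty_homotopy_of_Q_map_eq hk'
  obtain ⟨l, hl₁, hl₂⟩ := exists_hp_lift k ψ σ₀ β (Homotopy.equivSubZero.symm Hk)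
  haveI := quasiIso_hpσ k ψ
  haveI hfσ : QuasiIso ((pC f).map (hpσ k ψ)) :=
    quasiIso_map_hpσ k ψ (Scheme.Modules.pushforward f) (quasiIso_push_res g' f J ψ)
  haveI : QuasiIso l := by
    haveI : QuasiIso (l ≫ hpσ k ψ) := by rw [hl₁]; infer_instance
    exact quasiIso_of_comp_right l (hpσ k ψ)
  haveI : QuasiIso (flat' g' (l ≫ hpπ k ψ)) := by rw [hl₂, hβ]; infer_instance
  let F := (resF S).obj ((pC f).obj (hp k ψ))
  let q := (resψ S).app ((pC f).obj (hp k ψ))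
  have hF : DCoh.IsKFlat F := isKFlat_resF _
  have hIq : ∀ i, Coh.IsQCoh (I.homology i) := isQCoh_homology_of_qis σ₀ hLq
  have hJq : ∀ i, Coh.IsQCoh (J.homology i) :=
    isQCoh_homology_of_qis t (isQCoh_homology_qC g' hL hLq)
  haveI hΦ : QuasiIso (flat' g₀ (q ≫ (pC f).map (hpπ k ψ) ≫ bcX H.w J)) :=
    quasiIso_baseChange_local H (hpσ k ψ) hIq hJq (hpπ k ψ) (hloc L hL hLq l (hpπ k ψ)) hF q
  let qX := HomotopyCategory.quotient X.Modules (ComplexShape.up ℤ)
  haveI : IsIso ((DerPush.rpushUnit f).app (qX.obj (hp k ψ))) := by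
    haveI : IsIso ((DerPush.rpushUnit f).app (qX.obj I)) := DerPush.isIso_rpushUnit_app f (I := qX.obj I) ‹_›
    haveI : IsIso (DerivedCategory.Qh.map (qX.map (hpσ k ψ))) :=
      (NatIso.isIso_map_iff (DerivedCategory.quotientCompQhIso X.Modules) (hpσ k ψ)).2 inferInstance
    haveI hp' : IsIso ((DCoh.pushKh f).map (qX.map (hpσ k ψ))) :=
      (NatIso.isIso_map_iff (DerivedCategory.quotientCompQhIso S.Modules) ((pC f).map (hpσ k ψ))).2 inferInstance
    have h := (DerPush.rpushUnit f).naturality (qX.map (hpσ k ψ))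
    haveI : IsIso ((DCoh.pushKh f).map (qX.map (hpσ k ψ)) ≫ (DerPush.rpushUnit f).app (qX.obj I)) := inferInstance
    haveI : IsIso ((DerivedCategory.Qh ⋙ DCoh.Rpush f).map (qX.map (hpσ k ψ))) :=
      inferInstanceAs (IsIso ((DCoh.Rpush f).map (DerivedCategory.Qh.map (qX.map (hpσ k ψ)))))
    exact IsIso.of_isIso_fac_right h.symm
  haveI := isIso_baseChangeApp_data H.w e he hL l (hpπ k ψ) hF q
  let ε' : E ≅ DerivedCategory.Qh.obj (qX.obj (hp k ψ)) :=
    ε.symm ≪≫ asIso (DerivedCategory.Q.map l) ≪≫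
      ((DerivedCategory.quotientCompQhIso X.Modules).app (hp k ψ)).symm
  haveI : IsIso (DCoh.baseChangeApp (adjD g₀) (adjD g') e E ≫ (DCoh.Rpush f').map ((DCoh.Lpull g').map ε'.hom)) := by
    rw [baseChangeApp_naturality (adjD g₀) (adjD g') e ε'.hom]
    infer_instance
  exact IsIso.of_isIso_comp_right _ ((DCoh.Rpush f').map ((DCoh.Lpull g').map ε'.hom))

end Groth.Agent.BCA
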