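import Groth.Agent.TorBC.Canon
import Groth.Agent.DQPush.Acyclic

/-!
The canonical base change morphism on representatives.
-/

set_option autoImplicit false
set_option backward.isDefEq.respectTransparency false
set_option backward.isDefEq.respectTransparency.types false
set_option linter.style.haveILetI false
set_option linter.unusedSectionVars false
set_option maxHeartbeats 1000000

universe u

open CategoryTheory Limits AlgebraicGeometry HomologicalComplex

attribute [local instance] HasDerivedCategory.standard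

namespace Groth.Agent.BCA

open Groth.Agent.KFlat Groth.Agent.ProjForm Groth.Agent.FlatBCD Groth.Agent.TorBC

variable {X S X' S' : Scheme.{u}} {f : X ⟶ S} {g₀ : S' ⟶ S} {g' : X' ⟶ X} {f' : X' ⟶ S'}
  [DCoh.HasRpush f] [DCoh.HasRpush g₀] [DCoh.HasLpull g₀] [DCoh.HasRpush f'] [DCoh.HasRpush g'] [DCoh.HasLpull g']

/-- the canonical base change morphism on representatives -/
theorem baseChangeApp_chain (w : g' ≫ f = f' ≫ g₀)
    (e : DCoh.Rpush g' ⋙ DCoh.Rpush f ≅ DCoh.Rpush f' ⋙ DCoh.Rpush g₀)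
    (he : tau' (f := f) (g' := g') ≫ Functor.whiskerLeft DerivedCategory.Qh e.hom = tau'' w)
    {L N : CochainComplex X.Modules ℤ} (hL : DCoh.IsKFlat L) (l : L ⟶ N) [QuasiIso l]
    {J : CochainComplex X'.Modules ℤ} [J.IsKInjective] (π : N ⟶ (pC g').obj J) [QuasiIso (flat' g' (l ≫ π))]
    [IsIso ((DerPush.rpushUnit f).app ((HomotopyCategory.quotient X.Modules (ComplexShape.up ℤ)).obj N))]
    {F : CochainComplex S.Modules ℤ} (hF : DCoh.IsKFlat F) (r : F ⟶ (pC f).obj N) [QuasiIso r]
    [QuasiIso (flat' g₀ (r ≫ (pC f).map π ≫ bcX w J))] :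
    ∃ (x : (DCoh.Lpull g').obj (DerivedCategory.Qh.obj ((HomotopyCategory.quotient X.Modules (ComplexShape.up ℤ)).obj N)) ⟶
        DerivedCategory.Qh.obj ((HomotopyCategory.quotient X'.Modules (ComplexShape.up ℤ)).obj J)),
      IsIso x ∧
      (DCoh.Lpull g₀).map (DerivedCategory.Qh.map ((HomotopyCategory.quotient S.Modules (ComplexShape.up ℤ)).map r) ≫
          (DerPush.rpushUnit f).app ((HomotopyCategory.quotient X.Modules (ComplexShape.up ℤ)).obj N)) ≫
        DCoh.baseChangeApp (adjD g₀) (adjD g') e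
          (DerivedCategory.Qh.obj ((HomotopyCategory.quotient X.Modules (ComplexShape.up ℤ)).obj N)) ≫
          (DCoh.Rpush f').map x =
      (FlatBCD.lpullCounit g₀).app ((HomotopyCategory.quotient S.Modules (ComplexShape.up ℤ)).obj F) ≫
        DerivedCategory.Qh.map ((HomotopyCategory.quotient S'.Modules (ComplexShape.up ℤ)).map
            (flat' g₀ (r ≫ (pC f).map π ≫ bcX w J))) ≫
          (DerPush.rpushUnit f').app ((HomotopyCategory.quotient X'.Modules (ComplexShape.up ℤ)).obj J) := by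
  let qX := HomotopyCategory.quotient X.Modules (ComplexShape.up ℤ)
  let qS := HomotopyCategory.quotient S.Modules (ComplexShape.up ℤ)
  let q' := HomotopyCategory.quotient X'.Modules (ComplexShape.up ℤ)
  let qS' := HomotopyCategory.quotient S'.Modules (ComplexShape.up ℤ)
  let m0 : qX.obj N ⟶ (pH g').obj (q'.obj J) := qX.map π
  let x : (DCoh.Lpull g').obj (DerivedCategory.Qh.obj (qX.obj N)) ⟶ DerivedCategory.Qh.obj (q'.obj J) :=
    (FlatBCD.lpullCounit g').app (qX.obj N) ≫ DerivedCategory.Qh.map (q'.map (flat' g' π))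
  let m := (pH f).map m0 ≫ (bcK w).app (q'.obj J)
  haveI : IsIso ((DerPush.rpushUnit f').app (q'.obj J)) := DerPush.isIso_rpushUnit_app f' (I := q'.obj J) ‹_›
  -- `x` is an isomorphism
  haveI : IsIso x := by
    haveI : IsIso ((FlatBCD.lpullCounit g').app (qX.obj L)) :=
      KFlat.isIso_app_of_kFlat (KFlat.kFlatAcyclic_pullback g') (DCoh.Lpull g') (FlatBCD.lpullCounit g') hL
    haveI : IsIso (DerivedCategory.Qh.map (qX.map l)) :=
      (NatIso.isIso_map_iff (DerivedCategory.quotientCompQhIso X.Modules) l).2 inferInstance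
    haveI : IsIso (DerivedCategory.Qh.map (q'.map (flat' g' (l ≫ π)))) :=
      (NatIso.isIso_map_iff (DerivedCategory.quotientCompQhIso X'.Modules) (flat' g' (l ≫ π))).2 inferInstance
    have hx : (DCoh.Lpull g').map (DerivedCategory.Qh.map (qX.map l)) ≫ x =
        (FlatBCD.lpullCounit g').app (qX.obj L) ≫ DerivedCategory.Qh.map (q'.map (flat' g' (l ≫ π))) := by
      rw [flat'_naturality_left, Functor.map_comp q', Functor.map_comp DerivedCategory.Qh]
      exact (FlatBCD.lpullCounit g').naturality_assoc (qX.map l) _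
    haveI : IsIso ((DCoh.Lpull g').map (DerivedCategory.Qh.map (qX.map l)) ≫ x) := by
      rw [hx]; exact IsIso.comp_isIso' ‹_› ‹_›
    exact IsIso.of_isIso_comp_left ((DCoh.Lpull g').map (DerivedCategory.Qh.map (qX.map l))) x
  have hm0 : (adjK g').homEquiv (qX.obj N) (q'.obj J) (q'.map (flat' g' π)) = m0 := by
    rw [Adjunction.homEquiv_unit]
    refine (qX.map_comp _ _).symm.trans (congrArg qX.map ?_)
    exact ((KInj.mapHomologicalComplexAdj (Scheme.Modules.pullbackPushforwardAdjunction g')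
      (ComplexShape.up ℤ)).homEquiv_unit _ _ _).symm.trans (Equiv.apply_symm_apply _ _)
  -- the unit
  have h1 : (adjD g').unit.app (DerivedCategory.Qh.obj (qX.obj N)) ≫ (DCoh.Rpush g').map x =
      DerivedCategory.Qh.map m0 ≫ (DerPush.rpushUnit g').app (q'.obj J) := by
    rw [Functor.map_comp, ← Category.assoc, adjD_unit, Category.assoc]
    erw [← (DerPush.rpushUnit g').naturality (q'.map (flat' g' π))]
    rw [← Category.assoc]
    congr 1
    exact (DerivedCategory.Qh.map_comp _ _).symm.trans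
      (congrArg _ (((adjK g').homEquiv_unit _ _ _).symm.trans hm0))
  have h2 : (DerPush.rpushUnit f).app (qX.obj N) ≫
      (adjD g₀).homEquiv _ _ (DCoh.baseChangeApp (adjD g₀) (adjD g') e (DerivedCategory.Qh.obj (qX.obj N)) ≫
        (DCoh.Rpush f').map x) =
      DerivedCategory.Qh.map m ≫ (DerPush.rpushUnit g₀).app ((pH f').obj (q'.obj J)) ≫
        (DCoh.Rpush g₀).map ((DerPush.rpushUnit f').app (q'.obj J)) := by
    rw [Adjunction.homEquiv_naturality_right, DCoh.baseChangeApp]
    erw [Equiv.apply_symm_apply, Category.assoc]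
    erw [← e.hom.naturality x]
    rw [Functor.comp_map, ← (DCoh.Rpush f).map_comp_assoc, h1, (DCoh.Rpush f).map_comp, Category.assoc]
    erw [← (DerPush.rpushUnit f).naturality_assoc m0]
    have hJe := congr_app he (q'.obj J)
    rw [NatTrans.comp_app, Functor.whiskerLeft_app, tau'_app, tau''_app, Category.assoc] at hJe
    erw [hJe]
    exact (Category.assoc _ _ _).symm.trans (congrArg (fun k => k ≫ (DerPush.rpushUnit g₀).app ((pH f').obj (q'.obj J)) ≫
      (DCoh.Rpush g₀).map ((DerPush.rpushUnit f').app (q'.obj J)))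
      (DerivedCategory.Qh.map_comp ((pH f).map m0) ((bcK w).app (q'.obj J)))).symm
  have hm : ((adjK g₀).homEquiv _ ((pH f').obj (q'.obj J))).symm m =
      qS'.map (flat' g₀ ((pC f).map π ≫ bcX w J)) := by
    have hm' : m = qS.map ((pC f).map π ≫ bcX w J) := (qS.map_comp _ _).symm
    rw [hm', Adjunction.homEquiv_counit]
    refine (qS'.map_comp _ _).symm.trans (congrArg qS'.map ?_)
    exact ((KInj.mapHomologicalComplexAdj (Scheme.Modules.pullbackPushforwardAdjunction g₀)
      (ComplexShape.up ℤ)).homEquiv_counit _ _ _).symm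
  have h3 : (DCoh.Lpull g₀).map ((DerPush.rpushUnit f).app (qX.obj N)) ≫
      DCoh.baseChangeApp (adjD g₀) (adjD g') e (DerivedCategory.Qh.obj (qX.obj N)) ≫ (DCoh.Rpush f').map x =
      (FlatBCD.lpullCounit g₀).app _ ≫ DerivedCategory.Qh.map (qS'.map (flat' g₀ ((pC f).map π ≫ bcX w J))) ≫
        (DerPush.rpushUnit f').app (q'.obj J) := by
    apply ((adjD g₀).homEquiv _ _).injective
    rw [Adjunction.homEquiv_naturality_left, h2]
    have h := adjD_symm g₀ m
    rw [Equiv.symm_apply_eq] at h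
    rw [← Category.assoc, h, ← hm, ← Adjunction.homEquiv_naturality_right]
    rw [Category.assoc]
    rfl
  -- the resolution of the direct image
  haveI : IsIso (DerivedCategory.Qh.map (qS.map r)) :=
    (NatIso.isIso_map_iff (DerivedCategory.quotientCompQhIso S.Modules) r).2 inferInstance
  haveI : IsIso ((FlatBCD.lpullCounit g₀).app (qS.obj F)) :=
    KFlat.isIso_app_of_kFlat (KFlat.kFlatAcyclic_pullback g₀) (DCoh.Lpull g₀) (FlatBCD.lpullCounit g₀) hF
  haveI : IsIso (DerivedCategory.Qh.map (qS'.map (flat' g₀ (r ≫ (pC f).map π ≫ bcX w J)))) :=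
    (NatIso.isIso_map_iff (DerivedCategory.quotientCompQhIso S'.Modules) _).2 inferInstance
  have h4 : (DCoh.Lpull g₀).map (DerivedCategory.Qh.map (qS.map r)) ≫ (FlatBCD.lpullCounit g₀).app _ ≫
      DerivedCategory.Qh.map (qS'.map (flat' g₀ ((pC f).map π ≫ bcX w J))) =
      (FlatBCD.lpullCounit g₀).app (qS.obj F) ≫
        DerivedCategory.Qh.map (qS'.map (flat' g₀ (r ≫ (pC f).map π ≫ bcX w J))) := by
    rw [flat'_naturality_left g₀ r, Functor.map_comp qS', Functor.map_comp DerivedCategory.Qh]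
    exact (FlatBCD.lpullCounit g₀).naturality_assoc (qS.map r) _
  haveI : IsIso ((DCoh.Lpull g₀).map (DerivedCategory.Qh.map (qS.map r)) ≫ (FlatBCD.lpullCounit g₀).app _ ≫
      DerivedCategory.Qh.map (qS'.map (flat' g₀ ((pC f).map π ≫ bcX w J)))) := by
    rw [h4]; exact IsIso.comp_isIso' ‹_› ‹_›
  haveI hr : IsIso ((DCoh.Lpull g₀).map (DerivedCategory.Qh.map (qS.map r))) := inferInstance
  refine ⟨x, inferInstance, ?_⟩
  rw [Functor.map_comp, Category.assoc]
  erw [h3, reassoc_of% h4]

/-- the canonical base change morphism on complexes -/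
theorem baseChangeApp_chainQ (w : g' ≫ f = f' ≫ g₀)
    (e : DCoh.Rpush g' ⋙ DCoh.Rpush f ≅ DCoh.Rpush f' ⋙ DCoh.Rpush g₀)
    (he : tau' (f := f) (g' := g') ≫ Functor.whiskerLeft DerivedCategory.Qh e.hom = tau'' w)
    {L N : CochainComplex X.Modules ℤ} (hL : DCoh.IsKFlat L) (l : L ⟶ N) [QuasiIso l]
    {J : CochainComplex X'.Modules ℤ} [J.IsKInjective] (π : N ⟶ (pC g').obj J) [QuasiIso (flat' g' (l ≫ π))]
    [IsIso ((DerPush.rpushUnit f).app ((HomotopyCategory.quotient X.Modules (ComplexShape.up ℤ)).obj N))]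
    {F : CochainComplex S.Modules ℤ} (hF : DCoh.IsKFlat F) (r : F ⟶ (pC f).obj N) [QuasiIso r]
    [QuasiIso (flat' g₀ (r ≫ (pC f).map π ≫ bcX w J))] :
    ∃ (x : (DCoh.Lpull g').obj (DerivedCategory.Q.obj N) ⟶ DerivedCategory.Q.obj J), IsIso x ∧
      (DCoh.Lpull g₀).map (DerivedCategory.Q.map r ≫ (DQPush.unitQ f).app N) ≫
        DCoh.baseChangeApp (adjD g₀) (adjD g') e (DerivedCategory.Q.obj N) ≫ (DCoh.Rpush f').map x =
      (ProjForm.lpullIso g₀ hF).hom ≫ DerivedCategory.Q.map (flat' g₀ (r ≫ (pC f).map π ≫ bcX w J)) ≫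
        (DQPush.unitQ f').app J := by
  obtain ⟨x, hx, h⟩ := baseChangeApp_chain w e he hL l π hF r
  refine ⟨x, hx, ?_⟩
  have hq₁ : ∀ {A : Scheme.{u}} (K : CochainComplex A.Modules ℤ),
      (DerivedCategory.quotientCompQhIso A.Modules).hom.app K = 𝟙 (DerivedCategory.Q.obj K) := fun K => rfl
  have hq₂ : ∀ {A : Scheme.{u}} (K : CochainComplex A.Modules ℤ),
      (DerivedCategory.quotientCompQhIso A.Modules).inv.app K = 𝟙 (DerivedCategory.Q.obj K) := fun K => rfl
  simp only [hq₁, hq₂, CategoryTheory.Functor.map_id, ProjForm.lpullIso, asIso_hom, DQCoh.lpullCounit, NatTrans.comp_app, Functor.whiskerRight_app,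
    Functor.whiskerLeft_app, DQPush.unitQ, AcycDef.unitQ, Functor.associator_hom_app, Functor.associator_inv_app,
    Category.id_comp, Category.comp_id]
  convert h using 1
  all_goals (try rfl)
  all_goals first
    | (refine congrArg₂ (· ≫ ·) (congrArg (DCoh.Lpull g₀).map (congrArg (_ ≫ ·) ?_)) rfl
       erw [Category.id_comp]
       exact (congrArg (_ ≫ ·) ((DCoh.Rpush f).map_id _)).trans (Category.comp_id _))
    | (erw [Category.id_comp, Category.comp_id]
       refine congrArg₂ (· ≫ ·) ?_ (congrArg (_ ≫ ·) ?_)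
       · exact (congrArg (_ ≫ ·) ((DerivedCategory.Qh (C := S'.Modules)).map_id
           ((HomotopyCategory.quotient S'.Modules (ComplexShape.up ℤ)).obj ((qC g₀).obj F)))).trans (Category.comp_id _)
       · exact (Category.id_comp _).trans ((congrArg (_ ≫ ·) ((DCoh.Rpush f').map_id _)).trans (Category.comp_id _)))

end Groth.Agent.BCA
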