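import Groth.Agent.TorBC.Canon
import Groth.Agent.DQPush.Acyclic

/-!
The canonical isomorphism `Rf_* Rg'_* = Rg_* Rf'_*` on a complex.
-/

set_option autoImplicit false
set_option backward.isDefEq.respectTransparency false
set_option backward.isDefEq.respectTransparency.types false
set_option linter.style.haveILetI false
set_option linter.unusedSectionVars false

universe u

open CategoryTheory Limits AlgebraicGeometry HomologicalComplex

attribute [local instance] HasDerivedCategory.standard

namespace Groth.Agent.BCA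

open Groth.Agent.KFlat Groth.Agent.ProjForm Groth.Agent.TorBC Groth.Agent.FlatBCD

variable {X S X' S' : Scheme.{u}} {f : X ⟶ S} {g₀ : S' ⟶ S} {g' : X' ⟶ X} {f' : X' ⟶ S'}
  [DCoh.HasRpush f] [DCoh.HasRpush g₀] [DCoh.HasRpush f'] [DCoh.HasRpush g']

lemma unitQ_e (w : g' ≫ f = f' ≫ g₀) (e : DCoh.Rpush g' ⋙ DCoh.Rpush f ≅ DCoh.Rpush f' ⋙ DCoh.Rpush g₀)
    (he : tau' (f := f) (g' := g') ≫ Functor.whiskerLeft DerivedCategory.Qh e.hom = tau'' w)
    (J : CochainComplex X'.Modules ℤ) :
    (DQPush.unitQ f).app ((pC g').obj J) ≫ (DCoh.Rpush f).map ((DQPush.unitQ g').app J) ≫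
        e.hom.app (DerivedCategory.Q.obj J) =
      DerivedCategory.Q.map (bcX w J) ≫ (DQPush.unitQ g₀).app ((pC f').obj J) ≫
        (DCoh.Rpush g₀).map ((DQPush.unitQ f').app J) := by
  have hJe := congr_app he ((HomotopyCategory.quotient X'.Modules (ComplexShape.up ℤ)).obj J)
  rw [NatTrans.comp_app, Functor.whiskerLeft_app, tau'_app, tau''_app, Category.assoc] at hJe
  have hn := e.hom.naturality ((DerivedCategory.quotientCompQhIso X'.Modules).hom.app J)
  simp only [Functor.comp_map] at hn
  simp only [DQPush.unitQ, AcycDef.unitQ, Functor.map_comp, Category.assoc]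
  erw [hn]
  simp only [← Category.assoc]
  refine congrArg (· ≫ _) ?_
  simp only [Category.assoc]
  erw [← Functor.map_comp_assoc (DCoh.Rpush f), Iso.hom_inv_id_app, CategoryTheory.Functor.map_id,
    Category.id_comp]
  erw [Category.id_comp]
  erw [hJe]
  erw [← Functor.map_comp_assoc (DCoh.Rpush g₀), Iso.hom_inv_id_app, CategoryTheory.Functor.map_id,
    Category.id_comp]
  refine congrArg₂ (· ≫ ·) ?_ (congrArg (_ ≫ ·) (Category.id_comp _).symm)
  rfl

end Groth.Agent.BCA
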