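import Groth.Agent.BCA.Univ
import Groth.Agent.BCA.Unit
import Groth.Agent.TorBC.Main

/-!
Over an affine base and an affine base change, the base change of a universal trace is universal.
-/

set_option autoImplicit false
set_option backward.isDefEq.respectTransparency false
set_option backward.isDefEq.respectTransparency.types false
set_option linter.style.haveILetI false
set_option linter.unusedSectionVars false
set_option maxHeartbeats 1000000

universe u

open CategoryTheory Limits AlgebraicGeometry HomologicalComplex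

attribute [local instance] HasDerivedCategory.standard

namespace Groth.Agent.BCA

open Groth.Agent.KFlat Groth.Agent.ProjForm Groth.Agent.TorBC Groth.Agent.FlatBCD Groth.Agent.FMTool

variable {X S X' S' : Scheme.{u}} {f : X ⟶ S} {g₀ : S' ⟶ S} {g' : X' ⟶ X} {f' : X' ⟶ S'}

/-- isomorphisms in front -/
lemma bijective_comp_left {C : Type*} [Category C] {A B D : C} (a : A ⟶ B) [IsIso a] :
    Function.Bijective fun x : B ⟶ D => a ≫ x :=
  ⟨fun _ _ h => (cancel_epi a).1 h, fun y => ⟨inv a ≫ y, by simp⟩⟩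

/-- isomorphisms at the end -/
lemma bijective_comp_right {C : Type*} [Category C] {A B D : C} (b : B ⟶ D) [IsIso b] :
    Function.Bijective fun x : A ⟶ B => x ≫ b :=
  ⟨fun _ _ h => (cancel_mono b).1 h, fun y => ⟨y ≫ inv b, by simp⟩⟩

/-- **the transposed universality** -/
theorem bijective_direct [IsAffine S] [IsAffineHom g₀] [CompactSpace X] [QuasiSeparatedSpace X]
    [QuasiCompact f] [QuasiSeparated f] [DCoh.HasRpush f] [DCoh.HasRpush g₀] [DCoh.HasRpush f']
    [DCoh.HasRpush g'] (H : IsPullback g' f' f g₀)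
    (hperf : ∀ P : DCoh.D X, DCoh.IsPerfect P → DCoh.IsPerfect ((DCoh.Rpush f).obj P))
    (e : DCoh.Rpush g' ⋙ DCoh.Rpush f ≅ DCoh.Rpush f' ⋙ DCoh.Rpush g₀)
    (he : tau' (f := f) (g' := g') ≫ Functor.whiskerLeft DerivedCategory.Qh e.hom = tau'' H.w)
    {N I : CochainComplex X.Modules ℤ} [I.IsKInjective] (σ : N ⟶ I) [QuasiIso σ] [QuasiIso ((pC f).map σ)]
    (hIq : ∀ i, Coh.IsQCoh (I.homology i))
    {J : CochainComplex X'.Modules ℤ} [J.IsKInjective]
    (π : N ⟶ (pC g').obj J)
    (hT : QuasiIso (tMap H.w ((resψ S).app (sg ((Scheme.Modules.pushforward g₀).obj (OO S')))) π))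
    {F R : CochainComplex S.Modules ℤ} (hF : DCoh.IsKFlat F) (q : F ⟶ (pC f).obj N) [QuasiIso q]
    {JS : CochainComplex S.Modules ℤ} (hJS : DCoh.IsQCohD (DCoh.toD S JS)) (z : (pC f).obj I ⟶ JS)
    (huniv : Univ f I JS z)
    (hR : DCoh.IsKFlat R) (r : R ⟶ JS) [QuasiIso r] (z' : F ⟶ R) (hz : z' ≫ r = q ≫ (pC f).map σ ≫ z)
    [QuasiIso (flat' g₀ (q ≫ (pC f).map π ≫ bcX H.w J))]
    (T : DCoh.D X) (hT' : DCoh.IsQCohD T) :
    Function.Bijective fun y : T ⟶ (DCoh.Rpush g').obj (DerivedCategory.Q.obj J) =>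
      (DCoh.Rpush f).map y ≫ e.hom.app (DerivedCategory.Q.obj J) ≫
        (DCoh.Rpush g₀).map ((rpushIso f' J).inv ≫
          inv (DerivedCategory.Q.map (flat' g₀ (q ≫ (pC f).map π ≫ bcX H.w J))) ≫
            DerivedCategory.Q.map ((qC g₀).map z')) := by
  haveI := hT
  let G := (Scheme.Modules.pushforward g₀).obj (OO S')
  let P := (resF S).obj (sg G)
  let p := (resψ S).app (sg G)
  have hP : DCoh.IsKFlat P := isKFlat_resF _
  have hGq : ∀ i, Coh.IsQCoh ((sg G).homology i) := fun i => by
    by_cases hi : i = 0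
    · subst hi
      exact QC.isQCoh_of_iso (singleObjHomologySelfIso (ComplexShape.up ℤ) 0 G).symm
        (haveI : (OO S').IsQuasicoherent := QC.isQCoh_unit S'; QC.isQCoh_pushforward g₀)
    · exact DQCoh.isQCoh_of_isZero (isZero_single_obj_homology _ _ _ _ hi)
  have hPq : ∀ i, Coh.IsQCoh (P.homology i) := isQCoh_homology_of_qis' p hGq
  haveI hmid := Dual3Nu.isIso_mid f I hIq hP hPq
  haveI := quasiIso_map_app_sch P hP q
  haveI := quasiIso_map_app_sch P hP r
  haveI := quasiIso_tens_of_kFlat hR p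
  haveI := quasiIso_map_app_sch ((qC f).obj P) (isKFlat_pullback f hP) σ
  let Tm := tMap H.w p π
  let w := q ≫ (pC f).map π ≫ bcX H.w J
  -- the constant isomorphism
  let κR : DerivedCategory.Q.obj ((DCoh.tensorCx.obj R).obj P) ⟶
      (DCoh.Rpush g₀).obj (DerivedCategory.Q.obj ((qC g₀).obj R)) :=
    DerivedCategory.Q.map ((DCoh.tensorCx.obj R).map p ≫ (sR R G).inv ≫ unitActC g₀ R) ≫
      (DQPush.unitQ g₀).app ((qC g₀).obj R)
  haveI : IsIso κR := by
    have hRq : ∀ i, Coh.IsQCoh (R.homology i) := isQCoh_homology_of_qis' r fun i =>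
      QC.isQCoh_of_iso (hdIso JS i) (hJS i)
    obtain ⟨JF, j, hJF, hj, hJ⟩ := exists_res_unitActC g₀ hR hRq
    haveI := hJF
    haveI : IsIso ((DQPush.unitQ g₀).app JF) := (rpushIso g₀ JF).isIso_hom
    have h : κR ≫ (DCoh.Rpush g₀).map (DerivedCategory.Q.map j) =
        DerivedCategory.Q.map ((DCoh.tensorCx.obj R).map p ≫ (sR R G).inv) ≫
          DerivedCategory.Q.map (unitActC g₀ R ≫ (pC g₀).map j) ≫ (DQPush.unitQ g₀).app JF := by
      simp only [κR, Functor.map_comp, Category.assoc]
      have hn := (DQPush.unitQ g₀).naturality j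
      simp only [Functor.comp_map] at hn
      rw [← hn]
    haveI : IsIso (κR ≫ (DCoh.Rpush g₀).map (DerivedCategory.Q.map j)) := by
      rw [h]; infer_instance
    exact IsIso.of_isIso_comp_right κR ((DCoh.Rpush g₀).map (DerivedCategory.Q.map j))
  let κ := inv (DerivedCategory.Q.map ((DCoh.tensorCx.map r).app P)) ≫ κR
  -- the comparison with `I ⊗ f^*P`
  let u : DerivedCategory.Q.obj ((DCoh.tensorCx.obj I).obj ((qC f).obj P)) ⟶
      (DCoh.Rpush g').obj (DerivedCategory.Q.obj J) :=
    inv (DerivedCategory.Q.map ((DCoh.tensorCx.map σ).app ((qC f).obj P))) ≫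
      DerivedCategory.Q.map Tm ≫ (rpushIso g' J).hom
  haveI : IsIso u := by
    haveI : IsIso (DerivedCategory.Q.map Tm) := inferInstance
    infer_instance
  let v := (rpushIso f' J).inv ≫ inv (DerivedCategory.Q.map (flat' g₀ w)) ≫
    DerivedCategory.Q.map ((qC g₀).map z')
  have key : (DCoh.Rpush f).map u ≫ e.hom.app (DerivedCategory.Q.obj J) ≫ (DCoh.Rpush g₀).map v =
      inv (Dual3Nu.mid f I P) ≫ DerivedCategory.Q.map ((DCoh.tensorCx.map z).app P) ≫ κ := by
    haveI : QuasiIso ((DCoh.tensorCx.map ((pC f).map σ)).app P) := quasiIso_map_app_sch P hP ((pC f).map σ)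
    rw [IsIso.eq_inv_comp, ← cancel_epi (DerivedCategory.Q.map ((DCoh.tensorCx.map ((pC f).map σ)).app P)),
      ← cancel_epi (DerivedCategory.Q.map ((DCoh.tensorCx.map q).app P))]
    -- right hand side
    have hR1 : DerivedCategory.Q.map ((DCoh.tensorCx.map q).app P) ≫
        DerivedCategory.Q.map ((DCoh.tensorCx.map ((pC f).map σ)).app P) ≫
          DerivedCategory.Q.map ((DCoh.tensorCx.map z).app P) ≫ κ =
        DerivedCategory.Q.map ((DCoh.tensorCx.map z').app P) ≫ κR := by
      simp only [κ, ← Functor.map_comp_assoc, ← NatTrans.comp_app, ← Functor.map_comp DCoh.tensorCx]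
      rw [← hz]
      simp only [Functor.map_comp, NatTrans.comp_app, Category.assoc, IsIso.hom_inv_id_assoc]
    rw [hR1]
    -- left hand side
    erw [← reassoc_of% (Dual3Nu.mid_natural_left f σ P)]
    erw [← Functor.map_comp_assoc (DCoh.Rpush f)]
    simp only [u, IsIso.hom_inv_id_assoc]
    simp only [Dual3Nu.mid, Category.assoc, Functor.map_comp]
    have hn := (DQPush.unitQ f).naturality Tm
    simp only [Functor.comp_map] at hn
    erw [← reassoc_of% hn]
    erw [reassoc_of% (unitQ_e H.w e he J)]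
    have hv : (DCoh.Rpush g₀).map ((DQPush.unitQ f').app J) ≫ (DCoh.Rpush g₀).map v =
        (DCoh.Rpush g₀).map (inv (DerivedCategory.Q.map (flat' g₀ w))) ≫
          (DCoh.Rpush g₀).map (DerivedCategory.Q.map ((qC g₀).map z')) := by
      rw [← Functor.map_comp, ← Functor.map_comp]
      exact congrArg _ ((rpushIso f' J).hom_inv_id_assoc _)
    erw [hv]
    simp only [← Functor.map_comp_assoc DerivedCategory.Q]
    have hkey : (DCoh.tensorCx.map q).app P ≫ (theta f N).app P ≫ (pC f).map Tm ≫ bcX H.w J =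
        ((DCoh.tensorCx.obj F).map p ≫ (sR F G).inv ≫ unitActC g₀ F) ≫ (pC g₀).map (flat' g₀ w) := by
      rw [Category.assoc, Category.assoc, ← psi_eq_unitActC g₀ _ w (flat'_spec g₀ w)]
      have h1 : (sR F G).inv ≫ (TN G).map q = (DCoh.tensorCx.map q).app (sg G) ≫ (sR ((pC f).obj N) G).inv := by
        rw [Iso.inv_comp_eq, ← Category.assoc, Iso.eq_comp_inv]
        exact sR_natural q G
      rw [show w = q ≫ (pC f).map π ≫ bcX H.w J from rfl, psi_comp, reassoc_of% h1, ← theta_psi H.w π,
        Iso.inv_hom_id_assoc, reassoc_of% ((DCoh.tensorCx.map q).naturality p)]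
      refine congrArg (_ ≫ ·) ?_
      have hn := (theta f N).naturality p
      simp only [Functor.comp_map] at hn
      rw [reassoc_of% hn]
      simp only [Tm, tMap, Functor.map_comp, Category.assoc]
      rfl
    erw [hkey]
    have hn2 := (DQPush.unitQ g₀).naturality (flat' g₀ w)
    simp only [Functor.comp_map] at hn2
    rw [Functor.map_comp, Category.assoc]
    erw [reassoc_of% hn2]
    erw [← Functor.map_comp_assoc (DCoh.Rpush g₀), IsIso.hom_inv_id, CategoryTheory.Functor.map_id,
      Category.id_comp]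
    have hn3 := (DQPush.unitQ g₀).naturality ((qC g₀).map z')
    simp only [Functor.comp_map] at hn3
    erw [← hn3]
    simp only [κR, ← Functor.map_comp_assoc]
    refine congrArg (· ≫ _) (congrArg _ ?_)
    simp only [Category.assoc]
    have h4 : unitActC g₀ F ≫ (pC g₀).map ((qC g₀).map z') = (TN G).map z' ≫ unitActC g₀ R :=
      HomologicalComplex.hom_ext _ _ fun n => ((unitAct g₀).naturality (z'.f n)).symm
    have h5 : (sR F G).inv ≫ (TN G).map z' = (DCoh.tensorCx.map z').app (sg G) ≫ (sR R G).inv := by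
      rw [Iso.inv_comp_eq, ← Category.assoc, Iso.eq_comp_inv]
      exact sR_natural z' G
    rw [h4, reassoc_of% h5, reassoc_of% ((DCoh.tensorCx.map z').naturality p)]
  have hb := bijective_tensor f I hIq JS hJS z huniv hperf (sg G) hGq T hT'
  have hfun : (fun y : T ⟶ (DCoh.Rpush g').obj (DerivedCategory.Q.obj J) =>
      (DCoh.Rpush f).map y ≫ e.hom.app (DerivedCategory.Q.obj J) ≫ (DCoh.Rpush g₀).map v) =
      (fun t => t ≫ κ) ∘ (fun x : T ⟶ (DerivedCategory.Q : _ ⥤ DCoh.D X).obj
          ((DCoh.tensorCx.obj I).obj ((qC f).obj P)) =>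
        (DCoh.Rpush f).map x ≫ inv (Dual3Nu.mid f I P) ≫
          DerivedCategory.Q.map ((DCoh.tensorCx.map z).app P)) ∘ fun y => y ≫ inv u := by
    funext y
    simp only [Function.comp_apply, Category.assoc]
    rw [← key, ← Functor.map_comp_assoc, Category.assoc, IsIso.inv_hom_id, Category.comp_id]
  show Function.Bijective fun y : T ⟶ (DCoh.Rpush g').obj (DerivedCategory.Q.obj J) =>
      (DCoh.Rpush f).map y ≫ e.hom.app (DerivedCategory.Q.obj J) ≫ (DCoh.Rpush g₀).map v
  rw [hfun]
  exact (bijective_comp_right κ).comp (hb.comp (bijective_comp_right (inv u)))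

end Groth.Agent.BCA
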