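import Groth.Agent.BCA.Piece

/-!
**Base change of universal traces** along an arbitrary morphism, for a Tor independent square.
-/

set_option autoImplicit false
set_option backward.isDefEq.respectTransparency false
set_option backward.isDefEq.respectTransparency.types false
set_option linter.style.haveILetI false
set_option linter.unusedSectionVars false
set_option maxHeartbeats 1000000

universe u

open CategoryTheory Limits AlgebraicGeometry HomologicalComplex

attribute [local instance] HasDerivedCategory.standard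

namespace Groth.Agent.BCA

open Groth.Agent.KFlat Groth.Agent.ProjForm Groth.Agent.TorBC Groth.Agent.FlatBCD

variable {X S X' S' : Scheme.{u}} {f : X ⟶ S} {g₀ : S' ⟶ S} {g' : X' ⟶ X} {f' : X' ⟶ S'}

/-- **base change of a universal trace** -/
theorem univT_baseChange [CompactSpace S] [QuasiSeparatedSpace S] [CompactSpace X] [QuasiSeparatedSpace X]
    [CompactSpace S'] [QuasiSeparatedSpace S'] [QuasiCompact f] [QuasiSeparated f]
    [DCoh.HasRpush f] [DCoh.HasRpush g₀] [DCoh.HasLpull g₀] [DCoh.HasRpush f'] [DCoh.HasRpush g']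
    [DCoh.HasLpull g'] (H : IsPullback g' f' f g₀) (hloc : LocHyp H)
    (hlocW : ∀ (V : S.Opens) (_ : IsAffineOpen V) (W : S'.Opens) (_ : IsAffineOpen W) (hWV : W ≤ g₀ ⁻¹ᵁ V)
      {gY : (f' ⁻¹ᵁ W : Scheme.{u}) ⟶ (f ⁻¹ᵁ V : Scheme.{u})}
      (HW : IsPullback gY (f' ∣_ W) (f ∣_ V) (g₀.resLE V W hWV)), LocHyp HW)
    (hperf : ∀ P : DCoh.D X, DCoh.IsPerfect P → DCoh.IsPerfect ((DCoh.Rpush f).obj P))
    (hperf' : ∀ P : DCoh.D X', DCoh.IsPerfect P → DCoh.IsPerfect ((DCoh.Rpush f').obj P))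
    (e : DCoh.Rpush g' ⋙ DCoh.Rpush f ≅ DCoh.Rpush f' ⋙ DCoh.Rpush g₀)
    (he : tau' (f := f) (g' := g') ≫ Functor.whiskerLeft DerivedCategory.Qh e.hom = tau'' H.w)
    {B : DCoh.D X} (hB : DCoh.IsQCohD B) {K : DCoh.D S} (hK : DCoh.IsQCohD K)
    (t : (DCoh.Rpush f).obj B ⟶ K) (ht : UnivT t)
    [IsIso (DCoh.baseChangeApp (adjD g₀) (adjD g') e B)] :
    UnivT (inv (DCoh.baseChangeApp (adjD g₀) (adjD g') e B) ≫ (DCoh.Lpull g₀).map t) := by
  haveI : QuasiCompact f' := MorphismProperty.of_isPullback H ‹QuasiCompact f›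
  haveI : QuasiSeparated f' := MorphismProperty.of_isPullback H ‹QuasiSeparated f›
  haveI : CompactSpace X' := QuasiCompact.compactSpace_of_compactSpace f'
  haveI : QuasiSeparatedSpace X' := quasiSeparatedSpace_of_quasiSeparated f'
  have hf : DCoh.RpushPreservesQCoh f := fun M hM => DQPush.isQCohD_rpush f hM
  haveI := DCohShriek.isLeftAdjoint_rpushQ f hf
  let adj := Adjunction.ofIsLeftAdjoint (DCoh.RpushQ f hf)
  have hf' : DCoh.RpushPreservesQCoh f' := fun M hM => DQPush.isQCohD_rpush f' hM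
  haveI := DCohShriek.isLeftAdjoint_rpushQ f' hf'
  let adj' := Adjunction.ofIsLeftAdjoint (DCoh.RpushQ f' hf')
  -- representatives
  obtain ⟨L, hL, -, ⟨ε⟩⟩ := KFlat.exists_isKFlat_rep B
  have hLq : ∀ i, Coh.IsQCoh (L.homology i) := fun i =>
    QC.isQCoh_of_iso ((DerivedCategory.homologyFunctor _ i).mapIso ε.symm ≪≫ hdIso L i) (hB i)
  obtain ⟨I, σ₀, hI, hσ₀⟩ := DerPush.exists_kInj_sch L
  obtain ⟨J, t₀, hJ, ht₀⟩ := DerPush.exists_kInj_sch ((qC g').obj L)
  let β : L ⟶ (pC g').obj J :=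
    (KInj.mapHomologicalComplexAdj (Scheme.Modules.pullbackPushforwardAdjunction g') (ComplexShape.up ℤ)).homEquiv L J t₀
  have hβ : flat' g' β = t₀ := Equiv.symm_apply_apply _ _
  obtain ⟨J₂, ψ, hJ₂, hψ⟩ := DerPush.exists_kInj_sch ((pC g').obj J)
  obtain ⟨k, hk⟩ := KInj.Q_map_surjective (K := I) (I := J₂)
    (inv (DerivedCategory.Q.map σ₀) ≫ DerivedCategory.Q.map (β ≫ ψ))
  have hk' : DerivedCategory.Q.map (β ≫ ψ) = DerivedCategory.Q.map (σ₀ ≫ k) := by
    rw [Functor.map_comp _ σ₀, hk, IsIso.hom_inv_id_assoc]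
  obtain ⟨Hk⟩ := KInj.nonempty_homotopy_of_Q_map_eq hk'
  obtain ⟨l, hl₁, hl₂⟩ := exists_hp_lift k ψ σ₀ β (Homotopy.equivSubZero.symm Hk)
  haveI := quasiIso_hpσ k ψ
  let N := hp k ψ
  let σ := hpσ k ψ
  let π := hpπ k ψ
  haveI hfσ : QuasiIso ((pC f).map σ) :=
    quasiIso_map_hpσ k ψ (Scheme.Modules.pushforward f) (quasiIso_push_res g' f J ψ)
  haveI : QuasiIso l := by
    haveI : QuasiIso (l ≫ hpσ k ψ) := by rw [hl₁]; infer_instance
    exact quasiIso_of_comp_right l (hpσ k ψ)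
  haveI : QuasiIso (flat' g' (l ≫ π)) := by rw [hl₂, hβ]; infer_instance
  have hIq : ∀ i, Coh.IsQCoh (I.homology i) := isQCoh_homology_of_qis σ₀ hLq
  have hJq : ∀ i, Coh.IsQCoh (J.homology i) :=
    isQCoh_homology_of_qis t₀ (TorBC.isQCoh_homology_qC g' hL hLq)
  obtain ⟨JS, hJS, ⟨eJS⟩⟩ := HDU.exists_kInj_rep (A := S.Modules) K
  haveI := hJS
  let bN : DerivedCategory.Q.obj N ≅ B := (asIso (DerivedCategory.Q.map l)).symm ≪≫ ε
  let bI : DerivedCategory.Q.obj I ≅ B := (asIso (DerivedCategory.Q.map σ)).symm ≪≫ bN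
  obtain ⟨z, hz⟩ := KInj.Q_map_surjective (K := (pC f).obj I) (I := JS)
    ((rpushIso f I).hom ≫ (DCoh.Rpush f).map bI.hom ≫ t ≫ eJS.inv)
  have hJSq : DCoh.IsQCohD (DCoh.toD S JS) := fun i =>
    QC.isQCoh_of_iso ((DerivedCategory.homologyFunctor _ i).mapIso eJS.symm) (hK i)
  have huniv : UnivT ((rpushIso f I).inv ≫ DerivedCategory.Q.map z) := by
    rw [hz, Iso.inv_hom_id_assoc]
    exact univT_of_iso bI eJS.symm ht
  let F := (resF S).obj ((pC f).obj N)
  let q := (resψ S).app ((pC f).obj N)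
  let R := (resF S).obj JS
  let r := (resψ S).app JS
  let z' := (resF S).map ((pC f).map σ ≫ z)
  have hz' : z' ≫ r = q ≫ (pC f).map σ ≫ z := (resψ S).naturality _
  have hF : DCoh.IsKFlat F := isKFlat_resF _
  have hR : DCoh.IsKFlat R := isKFlat_resF _
  haveI hΦ : QuasiIso (flat' g₀ (q ≫ (pC f).map π ≫ bcX H.w J)) :=
    quasiIso_baseChange_local H σ hIq hJq π (hloc L hL hLq l π) hF q
  let v := (rpushIso f' J).inv ≫ inv (DerivedCategory.Q.map (flat' g₀ (q ≫ (pC f).map π ≫ bcX H.w J))) ≫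
    DerivedCategory.Q.map ((qC g₀).map z')
  -- universality of the chain level trace
  have hv : UnivT v := by
    refine univT_of_local adj' (fun i => QC.isQCoh_of_iso (hdIso J i).symm (hJq i)) (fun i =>
      QC.isQCoh_of_iso (hdIso _ i).symm (TorBC.isQCoh_homology_qC g₀ hR
        (isQCoh_homology_of_qis' r fun j => QC.isQCoh_of_iso (hdIso JS j) (hJSq j)) i)) v hperf' fun y => ?_
    obtain ⟨V, hV, hyV⟩ := QC.exists_affine_mem (g₀.base y)
    obtain ⟨W, hW, hyW, hle⟩ := exists_isAffineOpen_mem_and_subset (X := S') (x := y) (U := g₀ ⁻¹ᵁ V) hyV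
    exact ⟨W, hyW, hW, univT_piece adj H hloc hlocW hperf hL hLq l σ hIq hJq π hF q hJSq z hR r z' hz' huniv
      V hV W hW hle⟩
  -- comparison with the canonical morphism
  haveI : IsIso ((DQPush.unitQ f).app I) := (rpushIso f I).isIso_hom
  haveI hN : IsIso ((DQPush.unitQ f).app N) := by
    have h := (DQPush.unitQ f).naturality σ
    simp only [Functor.comp_map] at h
    haveI : IsIso (DerivedCategory.Q.map ((pC f).map σ) ≫ (DQPush.unitQ f).app I) := inferInstance
    exact IsIso.of_isIso_fac_right h.symm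
  haveI : IsIso ((DerPush.rpushUnit f).app ((HomotopyCategory.quotient X.Modules (ComplexShape.up ℤ)).obj N)) :=
    (AcycDef.isIso_unitQ_iff _ _ _ _).1 hN
  obtain ⟨x, hx, hch⟩ := baseChangeApp_chainQ H.w e he hL l π hF q
  haveI := hx
  haveI : IsIso (DCoh.baseChangeApp (adjD g₀) (adjD g') e (DerivedCategory.Q.obj N)) :=
    isIso_bc H e he hloc _ fun i => QC.isQCoh_of_iso ((DerivedCategory.homologyFunctor _ i).mapIso bN.symm) (hB i)
  let cF := ProjForm.lpullIso g₀ hF
  let cR := ProjForm.lpullIso g₀ hR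
  have hc : cF.hom ≫ DerivedCategory.Q.map ((qC g₀).map z') =
      (DCoh.Lpull g₀).map (DerivedCategory.Q.map z') ≫ cR.hom :=
    ((DQCoh.lpullCounit g₀).naturality z').symm
  let C : DerivedCategory.Q.obj ((qC g₀).obj R) ≅ (DCoh.Lpull g₀).obj K :=
    cR.symm ≪≫ (DCoh.Lpull g₀).mapIso (asIso (DerivedCategory.Q.map r) ≪≫ eJS)
  let b : (DCoh.Lpull g').obj B ≅ DerivedCategory.Q.obj J := (DCoh.Lpull g').mapIso bN.symm ≪≫ asIso x
  have key : (DCoh.Rpush f').map b.hom ≫ v ≫ C.hom =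
      inv (DCoh.baseChangeApp (adjD g₀) (adjD g') e B) ≫ (DCoh.Lpull g₀).map t := by
    rw [IsIso.eq_inv_comp]
    simp only [b, Iso.trans_hom, asIso_hom, Functor.mapIso_hom, Functor.map_comp, Category.assoc, Iso.symm_hom]
    rw [reassoc_of% (baseChangeApp_naturality (adjD g₀) (adjD g') e bN.inv),
      ← cancel_epi ((DCoh.Lpull g₀).map ((DCoh.Rpush f).map bN.hom)), ← Functor.map_comp_assoc,
      ← Functor.map_comp, Iso.hom_inv_id, CategoryTheory.Functor.map_id, CategoryTheory.Functor.map_id,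
      Category.id_comp, ← cancel_epi ((DCoh.Lpull g₀).map (DerivedCategory.Q.map q ≫ (DQPush.unitQ f).app N))]
    rw [reassoc_of% hch]
    simp only [v]
    simp only [Category.assoc]
    erw [← Category.assoc ((DQPush.unitQ f').app J) (rpushIso f' J).inv]
    erw [(rpushIso f' J).hom_inv_id]
    erw [Category.id_comp]
    erw [IsIso.hom_inv_id_assoc]
    rw [reassoc_of% hc]
    simp only [C, cR, Iso.trans_hom, Iso.symm_hom, Iso.hom_inv_id_assoc, Functor.mapIso_hom, asIso_hom,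
      ← Functor.map_comp]
    refine congrArg _ ?_
    rw [← Functor.map_comp_assoc DerivedCategory.Q, hz']
    simp only [Functor.map_comp, Category.assoc]
    refine congrArg (_ ≫ ·) ?_
    rw [hz]
    have h := (DQPush.unitQ f).naturality σ
    simp only [Functor.comp_map] at h
    rw [show (rpushIso f I).hom = (DQPush.unitQ f).app I from rfl]
    simp only [Category.assoc, Iso.inv_hom_id, Category.comp_id]
    erw [reassoc_of% h]
    refine congrArg (_ ≫ ·) ?_
    simp [bI, ← Functor.map_comp_assoc]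
  rw [← key]
  exact univT_of_iso b C hv

end Groth.Agent.BCA
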