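import Groth.Agent.BCA.Glob
import Groth.Agent.Dual3BCR.Main
import Groth.Agent.TorBC.TorLocal

/-!
**Tor independent base change for right adjoints of `Rf_*`.**
-/

set_option autoImplicit false
set_option backward.isDefEq.respectTransparency false
set_option backward.isDefEq.respectTransparency.types false
set_option linter.style.haveILetI false
set_option linter.unusedSectionVars false

universe u

open CategoryTheory Limits AlgebraicGeometry

attribute [local instance] HasDerivedCategory.standard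

namespace Groth.Agent.BCA

open Groth.Agent.DCohShriek Groth.Agent.TorBC Groth.Agent.FlatBCD

variable {X Y X' Y' : Scheme.{u}} {f : X ⟶ Y} {g : Y' ⟶ Y} {f' : X' ⟶ Y'} {g' : X' ⟶ X}

/-- the local hypothesis of a square with Tor independent affine pieces -/
theorem locHyp_of_tor [CompactSpace X] [QuasiSeparatedSpace X] [QuasiSeparatedSpace Y]
    (H : IsPullback g' f' f g)
    (htor : ∀ (U : Y.Opens), IsAffineOpen U → ∀ (U' : Y'.Opens), IsAffineOpen U' →
      ∀ (hU' : U' ≤ g ⁻¹ᵁ U) (V : X.Opens), IsAffineOpen V → ∀ (hV : V ≤ f ⁻¹ᵁ U) (i : ℕ), 0 < i →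
      Subsingleton (@DRing.Tor Γ(Y, U) _ i Γ(Y', U') Γ(X, V) _ (g.appLE U U' hU').hom.toModule _
        (f.appLE U V hV).hom.toModule)) : LocHyp H := by
  intro L hL hLq N l _ J _ π _ Vs Xs Ws Ys jV jX jW jY _ _ _ _ fV gW gY fY _ _ _ _ HW wf wg' wg _
  exact TorBC.exists_local_tor htor hL hLq l π jV jX jW jY HW wf wg' wg

/-- the local hypothesis of a square with a flat leg `f` -/
theorem locHyp_of_flat [CompactSpace X] [QuasiSeparatedSpace X] [QuasiSeparatedSpace Y] [Flat f]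
    (H : IsPullback g' f' f g) : LocHyp H :=
  locHyp_of_tor H fun U hU U' hU' hle V hV hle' i hi => Dual3XI.tor_of_flat U hU U' hU' hle V hV hle' i hi

variable [DCoh.HasRpush f] [DCoh.HasRpush f'] [DCoh.HasRpush g] [DCoh.HasRpush g']
variable {hf : DCoh.RpushPreservesQCoh f} {hf' : DCoh.RpushPreservesQCoh f'}
variable {hg : DCoh.RpushPreservesQCoh g} {hg' : DCoh.RpushPreservesQCoh g'}
variable [DCoh.HasLpull g] [DCoh.HasLpull g'] {hLg : Dual3.LpullPreservesQCoh g}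
  {hLg' : Dual3.LpullPreservesQCoh g'}
  {a : DCoh.DQCoh Y ⥤ DCoh.DQCoh X} {a' : DCoh.DQCoh Y' ⥤ DCoh.DQCoh X'}

/-- change of adjunctions in `bcPush` -/
lemma bcPush_change
    (e : DCoh.RpushQ g' hg' ⋙ DCoh.RpushQ f hf ≅ DCoh.RpushQ f' hf' ⋙ DCoh.RpushQ g hg)
    (adjg adjg₀ : Dual3.LpullQ g hLg ⊣ DCoh.RpushQ g hg)
    (adjg' adjg₀' : Dual3.LpullQ g' hLg' ⊣ DCoh.RpushQ g' hg') (K : DCoh.DQCoh X) :
    Dual3.bcPush e adjg adjg' K =
      (adjg.leftAdjointUniq adjg₀).hom.app _ ≫ Dual3.bcPush e adjg₀ adjg₀' K ≫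
        (DCoh.RpushQ f' hf').map ((adjg₀'.leftAdjointUniq adjg').hom.app K) := by
  have hs : ∀ {A : DCoh.DQCoh Y} {B : DCoh.DQCoh Y'} (φ : A ⟶ (DCoh.RpushQ g hg).obj B),
      (adjg.homEquiv A B).symm φ = (adjg.leftAdjointUniq adjg₀).hom.app A ≫ (adjg₀.homEquiv A B).symm φ := by
    intro A B φ
    apply (adjg.homEquiv A B).injective
    rw [Equiv.apply_symm_apply, Adjunction.homEquiv_naturality_right,
      Adjunction.homEquiv_leftAdjointUniq_hom_app]
    exact ((Adjunction.homEquiv_unit adjg₀ _ _ _).symm.trans (Equiv.apply_symm_apply _ _)).symm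
  have hu : adjg'.unit.app K =
      adjg₀'.unit.app K ≫ (DCoh.RpushQ g' hg').map ((adjg₀'.leftAdjointUniq adjg').hom.app K) :=
    (Adjunction.homEquiv_leftAdjointUniq_hom_app adjg₀' adjg' K).symm.trans (Adjunction.homEquiv_unit adjg₀' _ _ _)
  have he := e.hom.naturality ((adjg₀'.leftAdjointUniq adjg').hom.app K)
  simp only [Functor.comp_map] at he
  rw [Dual3.bcPush, hs, Dual3.bcPush, ← Adjunction.homEquiv_naturality_right_symm, Category.assoc, hu,
    Functor.map_comp, Category.assoc, he]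

/-- `bcPush` of the restricted adjunctions -/
lemma bcPush_adjQ_hom (e₀ : DCoh.Rpush g' ⋙ DCoh.Rpush f ≅ DCoh.Rpush f' ⋙ DCoh.Rpush g)
    (adj₀ : DCoh.Lpull g ⊣ DCoh.Rpush g) (adj₀' : DCoh.Lpull g' ⊣ DCoh.Rpush g') (K : DCoh.DQCoh X) :
    (Dual3.bcPush (Dual3XI.isoQ hf hf' hg hg' e₀) (Dual3XI.adjQ hg hLg adj₀)
      (Dual3XI.adjQ hg' hLg' adj₀') K).hom = DCoh.baseChangeApp adj₀ adj₀' e₀ K.obj := by
  apply (adj₀.homEquiv _ _).injective
  refine (Dual3XI.map_homEquiv_adjQ (hg := hg) (hLg := hLg) adj₀ _).symm.trans ?_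
  rw [Dual3.bcPush, Equiv.apply_symm_apply, DCoh.baseChangeApp]
  erw [Equiv.apply_symm_apply]
  show (DCoh.Rpush f).map ((Dual3XI.adjQ hg' hLg' adj₀').unit.app K).hom ≫
    ((Dual3XI.isoQ hf hf' hg hg' e₀).hom.app _).hom = _
  rw [Dual3XI.map_unit_adjQ]
  congr 1

/-- **the base change map of right adjoints is invertible** -/
theorem exists_bc [CompactSpace X] [QuasiSeparatedSpace X] [CompactSpace Y] [QuasiSeparatedSpace Y]
    [CompactSpace Y'] [QuasiSeparatedSpace Y'] [QuasiCompact f] [QuasiSeparated f]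
    (H : IsPullback g' f' f g) (hloc : LocHyp H)
    (hlocW : ∀ (V : Y.Opens) (_ : IsAffineOpen V) (W : Y'.Opens) (_ : IsAffineOpen W) (hWV : W ≤ g ⁻¹ᵁ V)
      {gY : (f' ⁻¹ᵁ W : Scheme.{u}) ⟶ (f ⁻¹ᵁ V : Scheme.{u})}
      (HW : IsPullback gY (f' ∣_ W) (f ∣_ V) (g.resLE V W hWV)), LocHyp HW)
    (hperf : ∀ P : DCoh.D X, DCoh.IsPerfect P → DCoh.IsPerfect ((DCoh.Rpush f).obj P))
    (hperf' : ∀ P : DCoh.D X', DCoh.IsPerfect P → DCoh.IsPerfect ((DCoh.Rpush f').obj P))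
    (adj : DCoh.RpushQ f hf ⊣ a) (adj' : DCoh.RpushQ f' hf' ⊣ a')
    (adjg : Dual3.LpullQ g hLg ⊣ DCoh.RpushQ g hg) (adjg' : Dual3.LpullQ g' hLg' ⊣ DCoh.RpushQ g' hg') :
    ∃ (e : DCoh.RpushQ g' hg' ⋙ DCoh.RpushQ f hf ≅ DCoh.RpushQ f' hf' ⋙ DCoh.RpushQ g hg)
      (hξ : ∀ M : DCoh.DQCoh Y', IsIso (Dual3.xi adj adj' e M)),
      (∀ K : DCoh.DQCoh X, IsIso (Dual3.bcPush e adjg adjg' K)) ∧
        ∀ K : DCoh.DQCoh Y, IsIso (Dual3.bcMap adj adj' e adjg adjg' K (hξ _)) := by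
  obtain ⟨e₀, he⟩ := TorBC.exists_iso (f := f) (g₀ := g) H.w
  let e := Dual3XI.isoQ hf hf' hg hg' e₀
  let adj₀ := Dual3XI.adjQ hg hLg (adjD g)
  let adj₀' := Dual3XI.adjQ hg' hLg' (adjD g')
  have hbc : ∀ E : DCoh.D X, DCoh.IsQCohD E → IsIso (DCoh.baseChangeApp (adjD g) (adjD g') e₀ E) :=
    fun E hE => isIso_bc H e₀ he hloc E hE
  have hP₀ : ∀ K, IsIso (Dual3.bcPush e adj₀ adj₀' K) := fun K => Dual3XI.isIso_bcPush e₀ _ _ hbc K
  have hP : ∀ K, IsIso (Dual3.bcPush e adjg adjg' K) := fun K =>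
    Dual3BCR.isIso_bcPush_of_other e adjg adj₀ adjg' adj₀' K (hP₀ K)
  have hξ := Dual3XI.isIso_xi adj adj' e adjg adjg' hP
  refine ⟨e, hξ, hP, fun K => ?_⟩
  let β := Dual3.bcMap adj adj' e adjg adjg' K (hξ _)
  haveI := hP (a.obj K)
  haveI := hP₀ (a.obj K)
  haveI := hbc (a.obj K).obj (a.obj K).property
  have hu := univT_baseChange H hloc hlocW hperf hperf' e₀ he (a.obj K).property K.property _ (univT_counit adj K)
  -- the transpose
  let u₁ := adjg.leftAdjointUniq adj₀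
  let u₂ := (adj₀'.leftAdjointUniq adjg').app (a.obj K)
  have h0 : (adj'.homEquiv _ _).symm β =
      (DCoh.RpushQ f' hf').map u₂.inv ≫ (inv (Dual3.bcPush e adj₀ adj₀' (a.obj K)) ≫
        (Dual3.LpullQ g hLg).map (adj.counit.app K)) ≫ u₁.inv.app K := by
    rw [← cancel_epi (Dual3.bcPush e adjg adjg' (a.obj K))]
    refine (Dual3BCR.bcPush_comp_transpose adj adj' e adjg adjg' K (hξ _)).trans ?_
    rw [bcPush_change e adjg adj₀ adjg' adj₀' (a.obj K)]
    simp only [Category.assoc]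
    rw [show (adj₀'.leftAdjointUniq adjg').hom.app (a.obj K) = u₂.hom from rfl, ← Functor.map_comp_assoc,
      Iso.hom_inv_id, CategoryTheory.Functor.map_id, Category.id_comp, IsIso.hom_inv_id_assoc]
    erw [← u₁.hom.naturality_assoc (adj.counit.app K), Iso.hom_inv_id_app, Category.comp_id]
  have h1 : DCohShriek.tr adj' β.hom = (DCoh.Rpush f').map u₂.inv.hom ≫
      (inv (DCoh.baseChangeApp (adjD g) (adjD g') e₀ (a.obj K).obj) ≫ (DCoh.Lpull g).map (adj.counit.app K).hom) ≫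
        (u₁.inv.app K).hom := by
    have h := congrArg InducedCategory.Hom.hom h0
    rw [Adjunction.homEquiv_counit] at h
    refine h.trans ?_
    refine congrArg (fun w => (DCoh.Rpush f').map u₂.inv.hom ≫ (w ≫ _) ≫ _) ?_
    refine (IsIso.inv_eq_of_hom_inv_id ?_).symm
    rw [← bcPush_adjQ_hom (hf := hf) (hf' := hf') (hg := hg) (hg' := hg') (hLg := hLg) (hLg' := hLg') e₀ (adjD g) (adjD g')]
    exact congrArg InducedCategory.Hom.hom (IsIso.hom_inv_id (Dual3.bcPush e adj₀ adj₀' (a.obj K)))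
  have h2 : UnivT (DCohShriek.tr adj' β.hom) := by
    rw [h1]
    exact univT_of_iso ((ObjectProperty.ι _).mapIso u₂.symm) ((ObjectProperty.ι _).mapIso (u₁.app K).symm) hu
  haveI : IsIso β.hom := (univT_tr_iff adj' ((Dual3.LpullQ g' hLg').obj (a.obj K)).property β.hom).1 h2
  haveI : IsIso ((ObjectProperty.ι _).map β) := ‹IsIso β.hom›
  exact isIso_of_reflects_iso β (ObjectProperty.ι _)

end Groth.Agent.BCA
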