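import Groth.Agent.BCA.RestrRho
import Groth.Agent.Dual3Nu.Main

/-!
Universal traces `Rf_* B ⟶ K`: localisation on the base.
-/

set_option autoImplicit false
set_option backward.isDefEq.respectTransparency false
set_option backward.isDefEq.respectTransparency.types false
set_option linter.style.haveILetI false
set_option linter.unusedSectionVars false

universe u

open CategoryTheory Limits Pretriangulated AlgebraicGeometry ZeroObject

attribute [local instance] HasDerivedCategory.standard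

namespace Groth.Agent.BCA

open Groth.Agent.DQCoh (RD rdIso)
open Groth.Agent.PerfGen Groth.Agent.DCohShriek

variable {X Y : Scheme.{u}} {f : X ⟶ Y} [DCoh.HasRpush f]

/-- `t` represents `Hom(Rf_* -, K)` on quasi-coherent objects -/
def UnivT {B : DCoh.D X} {K : DCoh.D Y} (t : (DCoh.Rpush f).obj B ⟶ K) : Prop :=
  ∀ T : DCoh.D X, DCoh.IsQCohD T → Function.Bijective fun φ : T ⟶ B => (DCoh.Rpush f).map φ ≫ t

lemma univT_of_iso {B B' : DCoh.D X} {K K' : DCoh.D Y} {t : (DCoh.Rpush f).obj B ⟶ K} (b : B' ≅ B)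
    (c : K ≅ K') (h : UnivT t) : UnivT ((DCoh.Rpush f).map b.hom ≫ t ≫ c.hom) := by
  intro T hT
  have : (fun φ : T ⟶ B' => (DCoh.Rpush f).map φ ≫ (DCoh.Rpush f).map b.hom ≫ t ≫ c.hom) =
      c.homToEquiv ∘ (fun φ : T ⟶ B => (DCoh.Rpush f).map φ ≫ t) ∘ b.homToEquiv := by
    funext φ
    simp
  rw [this]
  exact (Equiv.bijective _).comp ((h T hT).comp (Equiv.bijective _))

variable {hf : DCoh.RpushPreservesQCoh f} {a : DCoh.DQCoh Y ⥤ DCoh.DQCoh X} (adj : DCoh.RpushQ f hf ⊣ a)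

/-- the counit is universal -/
lemma univT_counit (K : DCoh.DQCoh Y) : UnivT (f := f) (B := (a.obj K).obj) (adj.counit.app K).hom :=
  fun _ hT => tr_bijective adj hT K

/-- universality through the transpose -/
lemma univT_tr_iff {B : DCoh.D X} (hB : DCoh.IsQCohD B) {K : DCoh.DQCoh Y} (u : B ⟶ (a.obj K).obj) :
    UnivT (f := f) (DCohShriek.tr adj u) ↔ IsIso u := by
  have hfun : ∀ T : DCoh.D X, (fun φ : T ⟶ B => (DCoh.Rpush f).map φ ≫ DCohShriek.tr adj u) =
      DCohShriek.tr adj ∘ fun φ => φ ≫ u := fun T => funext fun φ => (tr_comp adj φ u).symm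
  constructor
  · intro h
    have h1 : ∀ T : DCoh.D X, DCoh.IsQCohD T → Function.Bijective fun φ : T ⟶ B => φ ≫ u := fun T hT => by
      have h2 := h T hT
      rw [hfun] at h2
      exact (Function.Bijective.of_comp_iff' (tr_bijective adj hT K) _).1 h2
    obtain ⟨v, hv⟩ := (h1 _ (a.obj K).property).2 (𝟙 _)
    exact ⟨v, (h1 B hB).1 (by show (u ≫ v) ≫ u = 𝟙 B ≫ u; rw [Category.assoc, (show v ≫ u = 𝟙 _ from hv)]; simp), hv⟩
  · intro h T hT
    rw [hfun]
    exact (tr_bijective adj hT K).comp (asIso u).homToEquiv.bijective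

include adj in
/-- universality is local on the base -/
theorem univT_of_local {B : DCoh.D X} (hB : DCoh.IsQCohD B) {K : DCoh.D Y} (hK : DCoh.IsQCohD K)
    (t : (DCoh.Rpush f).obj B ⟶ K) [CompactSpace Y] [QuasiSeparatedSpace Y] [QuasiCompact f] [QuasiSeparated f]
    (hfin : ∀ P : DCoh.D X, DCoh.IsPerfect P → DCoh.IsPerfect ((DCoh.Rpush f).obj P))
    (h : ∀ y : Y, ∃ (V : Y.Opens) (_ : y ∈ V) (_ : IsAffineOpen V),
      ∀ [DCoh.HasRpush (f ∣_ V)], UnivT (f := f ∣_ V)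
        ((DQPush.rpushRestrIso f V).inv.app B ≫ (RD V.ι).map t)) :
    UnivT t := by
  obtain ⟨u, hu⟩ := (tr_bijective adj hB ⟨K, hK⟩).2 t
  subst hu
  refine (univT_tr_iff adj hB u).2 ?_
  obtain ⟨C, p, q, hC⟩ := distinguished_cocone_triangle u
  refine (Triangle.isZero₃_iff_isIso₁ _ hC).1 (isZero_of_suppD_empty fun i x hx => ?_)
  obtain ⟨V, hxV, hV, hloc⟩ := h (f.base x)
  haveI : IsAffine (V : Scheme.{u}) := hV
  haveI : CompactSpace X := QuasiCompact.compactSpace_of_compactSpace f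
  haveI : QuasiSeparatedSpace X := quasiSeparatedSpace_of_quasiSeparated f
  haveI : CompactSpace (f ⁻¹ᵁ V) := isCompact_iff_compactSpace.1 (f.isCompact_preimage hV.isCompact)
  haveI : QuasiSeparatedSpace (f ⁻¹ᵁ V) := quasiSeparatedSpace_of_quasiSeparated (f ⁻¹ᵁ V).ι
  haveI : QuasiCompact (f ∣_ V) := quasiCompact_of_compactSpace _
  haveI := DerPush.hasRpush_sch (f ∣_ V)
  have hfV : DCoh.RpushPreservesQCoh (f ∣_ V) := fun M hM => DQPush.isQCohD_rpush (f ∣_ V) hM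
  haveI := isLeftAdjoint_rpushQ (f ∣_ V) hfV
  let adjV := Adjunction.ofIsLeftAdjoint (DCoh.RpushQ (f ∣_ V) hfV)
  haveI : IsIso (thetaApp f adj V adjV ⟨K, hK⟩) :=
    isIso_thetaApp f adj V adjV (o := none) (fun P hP => Or.inl (hfin P hP)) hV.isCompact ⟨K, hK⟩
      (fun c hc => by cases hc)
  have h1 := @hloc ‹_›
  rw [← tr_thetaApp_comp] at h1
  have h2 := (univT_tr_iff adjV (isQCohD_RD _ hB) _).1 h1
  haveI : IsIso ((RD (f ⁻¹ᵁ V).ι).map u) :=
    IsIso.of_isIso_comp_right _ (thetaApp f adj V adjV ⟨K, hK⟩)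
  have hz : IsZero ((RD (f ⁻¹ᵁ V).ι).obj C) :=
    (Triangle.isZero₃_iff_isIso₁ _ ((RD (f ⁻¹ᵁ V).ι).map_distinguished _ hC)).2 ‹IsIso ((RD (f ⁻¹ᵁ V).ι).map u)›
  exact (isZero_RD_iff _ C).1 hz i hx ⟨⟨x, hxV⟩, rfl⟩

include adj in
/-- universality restricts to opens of the base -/
theorem univT_restrict [CompactSpace Y] [QuasiSeparatedSpace Y] [QuasiCompact f] [QuasiSeparated f]
    {B : DCoh.D X} (hB : DCoh.IsQCohD B) {K : DCoh.D Y} (hK : DCoh.IsQCohD K)
    {t : (DCoh.Rpush f).obj B ⟶ K} (ht : UnivT t)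
    (hfin : ∀ P : DCoh.D X, DCoh.IsPerfect P → DCoh.IsPerfect ((DCoh.Rpush f).obj P))
    (V : Y.Opens) (hV : IsAffineOpen V) [DCoh.HasRpush (f ∣_ V)] :
    UnivT (f := f ∣_ V) ((DQPush.rpushRestrIso f V).inv.app B ≫ (RD V.ι).map t) := by
  obtain ⟨u, hu⟩ := (tr_bijective adj hB ⟨K, hK⟩).2 t
  subst hu
  haveI : IsIso u := (univT_tr_iff adj hB u).1 ht
  haveI : IsAffine (V : Scheme.{u}) := hV
  haveI : CompactSpace X := QuasiCompact.compactSpace_of_compactSpace f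
  haveI : QuasiSeparatedSpace X := quasiSeparatedSpace_of_quasiSeparated f
  haveI : CompactSpace (f ⁻¹ᵁ V) := isCompact_iff_compactSpace.1 (f.isCompact_preimage hV.isCompact)
  haveI : QuasiSeparatedSpace (f ⁻¹ᵁ V) := quasiSeparatedSpace_of_quasiSeparated (f ⁻¹ᵁ V).ι
  haveI : QuasiCompact (f ∣_ V) := quasiCompact_of_compactSpace _
  have hfV : DCoh.RpushPreservesQCoh (f ∣_ V) := fun M hM => DQPush.isQCohD_rpush (f ∣_ V) hM
  haveI := isLeftAdjoint_rpushQ (f ∣_ V) hfV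
  let adjV := Adjunction.ofIsLeftAdjoint (DCoh.RpushQ (f ∣_ V) hfV)
  haveI : IsIso (thetaApp f adj V adjV ⟨K, hK⟩) :=
    isIso_thetaApp f adj V adjV (o := none) (fun P hP => Or.inl (hfin P hP)) hV.isCompact ⟨K, hK⟩
      (fun c hc => by cases hc)
  rw [← tr_thetaApp_comp]
  exact (univT_tr_iff adjV (isQCohD_RD _ hB) _).2 inferInstance

omit adj

/-- restriction of a trace given on complexes -/
lemma restrict_rep (V : Y.Opens) [DCoh.HasRpush (f ∣_ V)] (I : CochainComplex X.Modules ℤ)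
    [IsIso ((DQPush.unitQ f).app I)] [IsIso ((DQPush.unitQ (f ∣_ V)).app ((DQCoh.rC (f ⁻¹ᵁ V).ι).obj I))]
    [IsIso (TorBC.rhoC (wR f V) I)] {M : DCoh.D Y}
    (s : DerivedCategory.Q.obj ((ProjForm.pC f).obj I) ⟶ M) :
    (DQPush.rpushRestrIso f V).inv.app (DerivedCategory.Q.obj I) ≫
        (RD V.ι).map (inv ((DQPush.unitQ f).app I) ≫ s) =
      (DCoh.Rpush (f ∣_ V)).map (rdIso (f ⁻¹ᵁ V).ι I).hom ≫
        inv ((DQPush.unitQ (f ∣_ V)).app ((DQCoh.rC (f ⁻¹ᵁ V).ι).obj I)) ≫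
          DerivedCategory.Q.map (inv (TorBC.rhoC (wR f V) I)) ≫
            (rdIso V.ι ((ProjForm.pC f).obj I)).inv ≫ (RD V.ι).map s := by
  have h := unitQ_restr f V I
  rw [Functor.map_comp, Functor.map_inv, Functor.map_inv, ← cancel_epi
    ((RD V.ι).map ((DQPush.unitQ f).app I) ≫ (DQPush.rpushRestrIso f V).hom.app (DerivedCategory.Q.obj I))]
  simp only [Category.assoc, Iso.hom_inv_id_app_assoc, IsIso.hom_inv_id_assoc]
  rw [reassoc_of% h]
  erw [IsIso.hom_inv_id_assoc, IsIso.hom_inv_id_assoc, Iso.hom_inv_id_assoc]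

end Groth.Agent.BCA
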