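import Groth.Agent.BCA.Core
import Groth.Agent.BCA.Trace
import Groth.Agent.BCA.Bc
import Groth.Agent.Dual3BCR.Square

/-!
Base change of a universal trace over one pair of affine opens.
-/

set_option autoImplicit false
set_option backward.isDefEq.respectTransparency false
set_option backward.isDefEq.respectTransparency.types false
set_option linter.style.haveILetI false
set_option linter.unusedSectionVars false
set_option maxHeartbeats 1000000

universe u

open CategoryTheory Limits AlgebraicGeometry HomologicalComplex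

attribute [local instance] HasDerivedCategory.standard

namespace Groth.Agent.BCA

open Groth.Agent.KFlat Groth.Agent.ProjForm Groth.Agent.TorBC Groth.Agent.FlatBCD

variable {X S X' S' : Scheme.{u}} {f : X ⟶ S} {g₀ : S' ⟶ S} {g' : X' ⟶ X} {f' : X' ⟶ S'}

/-- `tMap` is a quasi-isomorphism for one resolution iff for the standard one -/
lemma quasiIso_tMap_res (w : g' ≫ f = f' ≫ g₀) {P : CochainComplex S.Modules ℤ} (hP : DCoh.IsKFlat P)
    (p : P ⟶ sg ((Scheme.Modules.pushforward g₀).obj (OO S'))) [QuasiIso p]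
    {L N : CochainComplex X.Modules ℤ} (hL : DCoh.IsKFlat L) (l : L ⟶ N) [QuasiIso l]
    {J : CochainComplex X'.Modules ℤ} (π : N ⟶ (pC g').obj J) (h : QuasiIso (tMap w p π)) :
    QuasiIso (tMap w ((resψ S).app (sg ((Scheme.Modules.pushforward g₀).obj (OO S')))) π) := by
  let p₀ := (resψ S).app (sg ((Scheme.Modules.pushforward g₀).obj (OO S')))
  let P₀ := (resF S).obj (sg ((Scheme.Modules.pushforward g₀).obj (OO S')))
  let Q := (resF S).obj P
  have hn : (resψ S).app P ≫ p = (resF S).map p ≫ p₀ := ((resψ S).naturality p).symm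
  have key : ∀ {A B : CochainComplex S.Modules ℤ} (_ : DCoh.IsKFlat A) (_ : DCoh.IsKFlat B) (b : A ⟶ B)
      [QuasiIso b], QuasiIso ((DCoh.tensorCx.obj N).map ((qC f).map b)) := by
    intro A B hA hB b _
    haveI := quasiIso_qC f hA hB b
    haveI := quasiIso_tens_of_kFlat hL ((qC f).map b)
    haveI := quasiIso_map_app_sch ((qC f).obj A) (isKFlat_pullback f hA) l
    haveI := quasiIso_map_app_sch ((qC f).obj B) (isKFlat_pullback f hB) l
    haveI : QuasiIso ((DCoh.tensorCx.obj L).map ((qC f).map b) ≫ (DCoh.tensorCx.map l).app ((qC f).obj B)) :=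
      inferInstance
    rw [(DCoh.tensorCx.map l).naturality ((qC f).map b)] at this
    exact quasiIso_of_comp_left ((DCoh.tensorCx.map l).app ((qC f).obj A)) _
  have tm : ∀ {A B : CochainComplex S.Modules ℤ} (b : A ⟶ B) (pb : B ⟶ sg _),
      tMap w (b ≫ pb) π = (DCoh.tensorCx.obj N).map ((qC f).map b) ≫ tMap w pb π := fun b pb => by
    simp only [tMap, Functor.map_comp, Category.assoc]
  haveI := key (isKFlat_resF P) hP ((resψ S).app P)
  haveI : QuasiIso ((resF S).map p) := by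
    haveI : QuasiIso ((resF S).map p ≫ p₀) := by rw [← hn]; infer_instance
    exact quasiIso_of_comp_right _ p₀
  haveI := key (A := Q) (B := P₀) (isKFlat_resF P) (isKFlat_resF _) ((resF S).map p)
  have h2 : QuasiIso (tMap w ((resψ S).app P ≫ p) π) := by
    rw [tm]; infer_instance
  rw [hn, tm] at h2
  haveI := h2
  exact quasiIso_of_comp_left ((DCoh.tensorCx.obj N).map ((qC f).map ((resF S).map p))) _

/-- **one piece**: the base change of the trace is universal -/
theorem univT_piece [CompactSpace S] [QuasiSeparatedSpace S] [CompactSpace X] [QuasiSeparatedSpace X]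
    [QuasiCompact f] [QuasiSeparated f] [DCoh.HasRpush f] [DCoh.HasRpush f']
    {hf : DCoh.RpushPreservesQCoh f} {a : DCoh.DQCoh S ⥤ DCoh.DQCoh X} (adj : DCoh.RpushQ f hf ⊣ a)
    (H : IsPullback g' f' f g₀) (hloc : LocHyp H)
    (hlocW : ∀ (V : S.Opens) (_ : IsAffineOpen V) (W : S'.Opens) (_ : IsAffineOpen W) (hWV : W ≤ g₀ ⁻¹ᵁ V)
      {gY : (f' ⁻¹ᵁ W : Scheme.{u}) ⟶ (f ⁻¹ᵁ V : Scheme.{u})}
      (HW : IsPullback gY (f' ∣_ W) (f ∣_ V) (g₀.resLE V W hWV)), LocHyp HW)
    (hperf : ∀ P : DCoh.D X, DCoh.IsPerfect P → DCoh.IsPerfect ((DCoh.Rpush f).obj P))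
    {L N I : CochainComplex X.Modules ℤ} (hL : DCoh.IsKFlat L) (hLq : ∀ i, Coh.IsQCoh (L.homology i))
    (l : L ⟶ N) [QuasiIso l] [I.IsKInjective] (σ : N ⟶ I) [QuasiIso σ] [QuasiIso ((pC f).map σ)]
    (hIq : ∀ i, Coh.IsQCoh (I.homology i))
    {J : CochainComplex X'.Modules ℤ} [J.IsKInjective] (hJq : ∀ i, Coh.IsQCoh (J.homology i))
    (π : N ⟶ (pC g').obj J) [QuasiIso (flat' g' (l ≫ π))]
    {F R : CochainComplex S.Modules ℤ} (hF : DCoh.IsKFlat F) (q : F ⟶ (pC f).obj N) [QuasiIso q]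
    {JS : CochainComplex S.Modules ℤ} (hJS : DCoh.IsQCohD (DCoh.toD S JS)) (z : (pC f).obj I ⟶ JS)
    (hR : DCoh.IsKFlat R) (r : R ⟶ JS) [QuasiIso r] (z' : F ⟶ R) (hz : z' ≫ r = q ≫ (pC f).map σ ≫ z)
    (huniv : UnivT ((rpushIso f I).inv ≫ DerivedCategory.Q.map z))
    [QuasiIso (flat' g₀ (q ≫ (pC f).map π ≫ bcX H.w J))]
    (V : S.Opens) (hV : IsAffineOpen V) (W : S'.Opens) (hW : IsAffineOpen W) (hWV : W ≤ g₀ ⁻¹ᵁ V)
    [DCoh.HasRpush (f' ∣_ W)] :
    UnivT (f := f' ∣_ W) ((DQPush.rpushRestrIso f' W).inv.app (DerivedCategory.Q.obj J) ≫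
      (DQCoh.RD W.ι).map ((rpushIso f' J).inv ≫
        inv (DerivedCategory.Q.map (flat' g₀ (q ≫ (pC f).map π ≫ bcX H.w J))) ≫
          DerivedCategory.Q.map ((qC g₀).map z'))) := by
  haveI : IsAffine (V : Scheme.{u}) := hV
  haveI : IsAffine (W : Scheme.{u}) := hW
  haveI : QuasiCompact f' := MorphismProperty.of_isPullback H ‹QuasiCompact f›
  haveI : QuasiSeparated f' := MorphismProperty.of_isPullback H ‹QuasiSeparated f›
  haveI : CompactSpace (f ⁻¹ᵁ V) := isCompact_iff_compactSpace.1 (f.isCompact_preimage hV.isCompact)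
  haveI : QuasiSeparatedSpace (f ⁻¹ᵁ V) := quasiSeparatedSpace_of_quasiSeparated (f ⁻¹ᵁ V).ι
  haveI : QuasiCompact (f ∣_ V) := quasiCompact_of_compactSpace _
  haveI : CompactSpace (f' ⁻¹ᵁ W) := isCompact_iff_compactSpace.1 (f'.isCompact_preimage hW.isCompact)
  haveI : QuasiSeparated (f' ∣_ W) := IsZariskiLocalAtTarget.restrict ‹QuasiSeparated f'› W
  haveI : QuasiSeparatedSpace (f' ⁻¹ᵁ W) := quasiSeparatedSpace_of_quasiSeparated (f' ∣_ W)
  haveI : QuasiCompact (f' ∣_ W) := quasiCompact_of_compactSpace _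
  haveI := DerPush.hasRpush_sch (f ∣_ V)
  -- the square
  have le : f' ⁻¹ᵁ W ≤ g' ⁻¹ᵁ (f ⁻¹ᵁ V) := by
    refine (f'.preimage_mono hWV).trans ?_
    rw [← Scheme.Hom.comp_preimage, ← Scheme.Hom.comp_preimage, H.w]
  let gW := g₀.resLE V W hWV
  let gY := g'.resLE (f ⁻¹ᵁ V) (f' ⁻¹ᵁ W) le
  let jX := (f ⁻¹ᵁ V).ι
  let jY := (f' ⁻¹ᵁ W).ι
  have hUY : f' ⁻¹ᵁ W = g' ⁻¹ᵁ (f ⁻¹ᵁ V) ⊓ f' ⁻¹ᵁ W := (inf_eq_right.2 le).symm
  have HW : IsPullback gY (f' ∣_ W) (f ∣_ V) gW := by
    have h := Scheme.Hom.isPullback_resLE H hWV le_rfl hUY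
    rwa [Scheme.Hom.resLE_eq_morphismRestrict, Scheme.Hom.resLE_eq_morphismRestrict] at h
  haveI : IsAffineHom gW := inferInstance
  haveI : IsAffineHom gY := MorphismProperty.of_isPullback (P := @IsAffineHom) HW.flip inferInstance
  haveI := DerPush.hasRpush_sch gW
  haveI := DerPush.hasRpush_sch gY
  have wg : gW ≫ V.ι = W.ι ≫ g₀ := Scheme.Hom.resLE_comp_ι g₀ hWV
  have wg' : gY ≫ jX = jY ≫ g' := Scheme.Hom.resLE_comp_ι g' le
  have hrf : jX.opensRange = f ⁻¹ᵁ V.ι.opensRange := by simp [jX]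
  have hrf' : jY.opensRange = f' ⁻¹ᵁ W.ι.opensRange := by simp [jY]
  haveI := isIso_rhoC (wR f V) hrf
  haveI := isIso_rhoC (wR f' W) hrf'
  haveI : CochainComplex.IsKInjective ((rC jX).obj I) := DQPush.isKInjective_restrict_open jX I ‹_›
  haveI : CochainComplex.IsKInjective ((rC jY).obj J) := DQPush.isKInjective_restrict_open jY J ‹_›
  haveI : IsIso ((DQPush.unitQ f).app I) := (rpushIso f I).isIso_hom
  haveI : IsIso ((DQPush.unitQ (f ∣_ V)).app ((rC jX).obj I)) := (rpushIso _ _).isIso_hom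
  haveI : IsIso ((DQPush.unitQ f').app J) := (rpushIso f' J).isIso_hom
  haveI : IsIso ((DQPush.unitQ (f' ∣_ W)).app ((rC jY).obj J)) := (rpushIso _ _).isIso_hom
  haveI : QuasiIso ((pC (f ∣_ V)).map ((rC jX).map σ)) := by
    haveI : QuasiIso (rhoC (wR f V) N ≫ (pC (f ∣_ V)).map ((rC jX).map σ)) := by
      rw [← rhoC_natural (wR f V) σ]; infer_instance
    exact quasiIso_of_comp_left (rhoC (wR f V) N) _
  haveI : QuasiIso (resC (wR f V) q) := by
    rw [resC]; infer_instance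
  -- the trace over `V`
  let zV := inv (rhoC (wR f V) I) ≫ (rC V.ι).map z
  have hperfV : ∀ P : DCoh.D (f ⁻¹ᵁ V : Scheme.{u}), DCoh.IsPerfect P →
      DCoh.IsPerfect ((DCoh.Rpush (f ∣_ V)).obj P) := fun P hP => by
    rcases DCohShriek.fin'_restrict (o := none) f (fun P hP => Or.inl (hperf P hP)) V
      (f.isCompact_preimage hV.isCompact) P hP with h | ⟨ho, -⟩
    · exact h
    · exact absurd ho (by simp)
  have hzV : Univ (f ∣_ V) ((rC jX).obj I) ((rC V.ι).obj JS) zV := by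
    have h := univT_restrict adj (fun i => QC.isQCoh_of_iso (hdIso I i).symm (hIq i)) hJS huniv hperf V hV
    have e := restrict_rep (f := f) V I (M := DerivedCategory.Q.obj JS) (DerivedCategory.Q.map z)
    have h' := univT_of_iso (DQCoh.rdIso jX I).symm (DQCoh.rdIso V.ι JS) h
    intro T hT
    refine Eq.mp ?_ (h' T hT)
    refine congrArg Function.Bijective (funext fun φ => congrArg (_ ≫ ·) ?_)
    have e' : (DQPush.rpushRestrIso f V).inv.app (DerivedCategory.Q.obj I) ≫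
        (DQCoh.RD V.ι).map ((rpushIso f I).inv ≫ DerivedCategory.Q.map z) = _ :=
      (congrArg (fun s => _ ≫ (DQCoh.RD V.ι).map (s ≫ _))
        (IsIso.inv_eq_of_hom_inv_id (rpushIso f I).hom_inv_id).symm).trans e
    erw [e']
    simp only [Category.assoc]
    erw [← Functor.map_comp_assoc, Iso.inv_hom_id, CategoryTheory.Functor.map_id, Category.id_comp]
    have hn : (DQCoh.RD V.ι).map (DerivedCategory.Q.map z) ≫ (DQCoh.rdIso V.ι JS).hom =
        (DQCoh.rdIso V.ι ((pC f).obj I)).hom ≫ DerivedCategory.Q.map ((rC V.ι).map z) :=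
      (Scheme.Modules.restrictFunctor V.ι).mapDerivedCategoryFactors.hom.naturality z
    erw [hn, Iso.inv_hom_id_assoc]
    simp only [Dual3Nu.trz, zV, Functor.map_comp]
    exact congrArg (· ≫ _) (IsIso.inv_eq_of_hom_inv_id (rpushIso _ _).hom_inv_id)
  -- the core over the pieces
  obtain ⟨P, p, hP, hp, hTW⟩ := hloc L hL hLq l π V.ι jX W.ι jY _ _ _ _ HW (wR f V) wg' wg hrf
  haveI := hp
  have hTW' := quasiIso_tMap_res HW.w hP p (isKFlat_rC jX hL) ((rC jX).map l) (resC wg' π) hTW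
  let qV := resC (wR f V) q
  let w := q ≫ (pC f).map π ≫ bcX H.w J
  have ew : qV ≫ (pC (f ∣_ V)).map (resC wg' π) ≫ bcX HW.w ((rC jY).obj J) =
      resC wg w ≫ (pC gW).map (rhoC (wR f' W) J) := by
    simp only [qV, w, resC, Functor.map_comp, Category.assoc]
    rw [← rhoC_paste H.w (wR f V) wg' (wR f' W) wg HW.w J]
    refine congrArg (_ ≫ ·) ?_
    rw [← Category.assoc, ← rhoC_natural (wR f V) π, Category.assoc]
  have efl : flat' gW (qV ≫ (pC (f ∣_ V)).map (resC wg' π) ≫ bcX HW.w ((rC jY).obj J)) =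
      gammaC wg F ≫ (rC W.ι).map (flat' g₀ w) ≫ rhoC (wR f' W) J := by
    rw [ew, flat'_naturality_right, flat'_resC, Category.assoc]
  haveI : QuasiIso (flat' gW (qV ≫ (pC (f ∣_ V)).map (resC wg' π) ≫ bcX HW.w ((rC jY).obj J))) := by
    rw [efl]; infer_instance
  have hzW : (rC V.ι).map z' ≫ (rC V.ι).map r = qV ≫ (pC (f ∣_ V)).map ((rC jX).map σ) ≫ zV := by
    rw [← Functor.map_comp, hz]
    simp only [qV, zV, resC, Functor.map_comp, Category.assoc]
    rw [← reassoc_of% (rhoC_natural (wR f V) σ), IsIso.hom_inv_id_assoc]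
  obtain ⟨eW, heW⟩ := TorBC.exists_iso (f := f ∣_ V) (g₀ := gW) HW.w
  haveI := KFlat.hasLpull gW
  haveI := KFlat.hasLpull gY
  have hcore := fun T hT => bijective_direct HW hperfV eW heW ((rC jX).map σ) (isQCoh_homology_rC jX hIq)
    (resC wg' π) hTW' (isKFlat_rC V.ι hF) qV (JS := (rC V.ι).obj JS)
    (fun i => QC.isQCoh_of_iso (hdIso _ i).symm (isQCoh_homology_rC V.ι (fun j => QC.isQCoh_of_iso (hdIso JS j) (hJS j)) i))
    zV hzV (isKFlat_rC V.ι hR) ((rC V.ι).map r) ((rC V.ι).map z') hzW T hT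
  let vW := (rpushIso (f' ∣_ W) ((rC jY).obj J)).inv ≫
    inv (DerivedCategory.Q.map (flat' gW (qV ≫ (pC (f ∣_ V)).map (resC wg' π) ≫ bcX HW.w ((rC jY).obj J)))) ≫
      DerivedCategory.Q.map ((qC gW).map ((rC V.ι).map z'))
  -- universality of `vW`
  have hJWq : DCoh.IsQCohD (DerivedCategory.Q.obj ((rC jY).obj J)) := fun i =>
    QC.isQCoh_of_iso (hdIso _ i).symm (isQCoh_homology_rC jY hJq i)
  have hvW : UnivT vW := by
    have hfW : DCoh.RpushPreservesQCoh (f' ∣_ W) := fun M hM => DQPush.isQCohD_rpush (f' ∣_ W) hM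
    haveI := DCohShriek.isLeftAdjoint_rpushQ (f' ∣_ W) hfW
    let adjW := Adjunction.ofIsLeftAdjoint (DCoh.RpushQ (f' ∣_ W) hfW)
    have hRq : DCoh.IsQCohD (DerivedCategory.Q.obj ((qC gW).obj ((rC V.ι).obj R))) := fun i =>
      QC.isQCoh_of_iso (hdIso _ i).symm (isQCoh_homology_qC gW (isKFlat_rC V.ι hR)
        (isQCoh_homology_rC V.ι (isQCoh_homology_of_qis' r fun j => QC.isQCoh_of_iso (hdIso JS j) (hJS j))) i)
    obtain ⟨u, hu⟩ := (DCohShriek.tr_bijective adjW hJWq ⟨_, hRq⟩).2 vW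
    rw [← hu]
    refine (univT_tr_iff adjW hJWq u).2 (Dual3BCR.isIso_of_bijective_lpull gY hJWq
      ((DCoh.RpushQ (f' ∣_ W) hfW).rightAdjoint.obj ⟨_, hRq⟩).property u fun G hG => ?_)
    have hGq := PerfGen.isQCohD_of_isPerfect hG
    have hLGq := DQCoh.isQCohD_Lpull gY _ hGq
    refine (Function.Bijective.of_comp_iff' (DCohShriek.tr_bijective adjW hLGq ⟨_, hRq⟩) _).1 ?_
    haveI : IsIso (DCoh.baseChangeApp (adjD gW) (adjD gY) eW G) := isIso_bc HW eW heW (hlocW V hV W hW hWV HW) G hGq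
    have hfun : (DCohShriek.tr adjW ∘ fun x : (DCoh.Lpull gY).obj G ⟶ _ => x ≫ u) =
        (fun s => inv (DCoh.baseChangeApp (adjD gW) (adjD gY) eW G) ≫ s) ∘ ((adjD gW).homEquiv _ _).symm ∘
          (fun y : G ⟶ _ => (DCoh.Rpush (f ∣_ V)).map y ≫ eW.hom.app _ ≫ (DCoh.Rpush gW).map vW) ∘
            (adjD gY).homEquiv _ _ := by
      funext x
      simp only [Function.comp_apply]
      rw [IsIso.eq_inv_comp, Equiv.eq_symm_apply, DCohShriek.tr_comp, hu, Adjunction.homEquiv_naturality_right,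
        DCoh.baseChangeApp]
      erw [Equiv.apply_symm_apply]
      rw [Adjunction.homEquiv_unit]
      simp only [Functor.map_comp, Category.assoc]
      refine congrArg (_ ≫ ·) ?_
      exact (eW.hom.naturality_assoc x _).symm
    rw [hfun]
    exact (bijective_comp_left _).comp ((Equiv.bijective _).comp ((hcore G hGq).comp (Equiv.bijective _)))
  -- back to the restriction
  have e := restrict_rep (f := f') W J (inv (DerivedCategory.Q.map (flat' g₀ w)) ≫
    DerivedCategory.Q.map ((qC g₀).map z'))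
  have hJi : (rpushIso f' J).inv = inv ((DQPush.unitQ f').app J) :=
    (IsIso.inv_eq_of_hom_inv_id (rpushIso f' J).hom_inv_id).symm
  rw [hJi]
  rw [e]
  let c : DerivedCategory.Q.obj ((qC gW).obj ((rC V.ι).obj R)) ≅
      (DQCoh.RD W.ι).obj (DerivedCategory.Q.obj ((qC g₀).obj R)) :=
    asIso (DerivedCategory.Q.map (gammaC wg R)) ≪≫ (DQCoh.rdIso W.ι ((qC g₀).obj R)).symm
  convert univT_of_iso (DQCoh.rdIso jY J) c hvW using 1
  refine congrArg (_ ≫ ·) ?_
  have hWi : (rpushIso (f' ∣_ W) ((rC jY).obj J)).inv = inv ((DQPush.unitQ (f' ∣_ W)).app ((rC jY).obj J)) :=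
    (IsIso.inv_eq_of_hom_inv_id (rpushIso _ _).hom_inv_id).symm
  simp only [vW, hWi, Category.assoc, c, Iso.trans_hom, asIso_hom, Iso.symm_hom]
  refine congrArg (_ ≫ ·) ?_
  rw [← Functor.map_comp_assoc DerivedCategory.Q, show (qC gW).map ((rC V.ι).map z') ≫ gammaC wg R =
      gammaC wg F ≫ (rC W.ι).map ((qC g₀).map z') from HomologicalComplex.hom_ext _ _ fun n =>
        (gammaSq wg).hom.naturality (z'.f n), Functor.map_comp_assoc]
  rw [IsIso.eq_inv_comp]
  simp only [efl, Functor.map_comp, Functor.map_inv, Category.assoc, IsIso.hom_inv_id_assoc]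
  refine congrArg (_ ≫ ·) ?_
  have hn : ∀ {A B : CochainComplex S'.Modules ℤ} (b : A ⟶ B),
      DerivedCategory.Q.map ((rC W.ι).map b) ≫ (DQCoh.rdIso W.ι B).inv =
        (DQCoh.rdIso W.ι A).inv ≫ (DQCoh.RD W.ι).map (DerivedCategory.Q.map b) :=
    fun b => (Scheme.Modules.restrictFunctor W.ι).mapDerivedCategoryFactors.inv.naturality b
  erw [reassoc_of% (hn (flat' g₀ w)), IsIso.hom_inv_id_assoc, hn]

end Groth.Agent.BCA
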