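import Groth.Agent.TorBC.Local
import Groth.Agent.DQPush.Restrict

/-!
`rho` for the square of a restriction is the restriction isomorphism of direct images.
-/

set_option autoImplicit false
set_option backward.isDefEq.respectTransparency false
set_option backward.isDefEq.respectTransparency.types false
set_option linter.style.haveILetI false
set_option linter.unusedSectionVars false

universe u

open CategoryTheory Limits AlgebraicGeometry HomologicalComplex

attribute [local instance] HasDerivedCategory.standard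

namespace Groth.Agent.BCA

open Groth.Agent.KFlat Groth.Agent.ProjForm Groth.Agent.TorBC

variable {X Y : Scheme.{u}} (f : X ⟶ Y) (V : Y.Opens)

/-- the commutative square of a restriction -/
lemma wR : (f ∣_ V) ≫ V.ι = (f ⁻¹ᵁ V).ι ≫ f := morphismRestrict_ι f V

lemma pushRestr_eq_rho (M : X.Modules) :
    (RelPCS.pushRestrIso f V).hom.app M = (rho (wR f V)).app M := by
  rw [show (rho (wR f V)).app M = (Scheme.Modules.restrictFunctor V.ι).map
      ((Scheme.Modules.pushforward f).map ((Scheme.Modules.restrictAdjunction (f ⁻¹ᵁ V).ι).unit.app M) ≫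
        (FlatBCD.bcC (wR f V)).inv.app _) ≫ (Scheme.Modules.restrictAdjunction V.ι).counit.app _ from
    (Scheme.Modules.restrictAdjunction V.ι).homEquiv_counit _ _ _]
  simp [RelPCS.pushRestrIso, RPushQC.topIso, FlatBCD.bcC]
  rfl

variable [DCoh.HasRpush f] [DCoh.HasRpush (f ∣_ V)]

/-- restriction of the comparison `Q f_* J ⟶ Rf_* Q J` -/
lemma unitQ_restr (J : CochainComplex X.Modules ℤ) :
    (DQCoh.RD V.ι).map ((DQPush.unitQ f).app J) ≫
        (DQPush.rpushRestrIso f V).hom.app (DerivedCategory.Q.obj J) ≫
          (DCoh.Rpush (f ∣_ V)).map (DQCoh.rdIso (f ⁻¹ᵁ V).ι J).hom =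
      (DQCoh.rdIso V.ι ((pC f).obj J)).hom ≫ DerivedCategory.Q.map (rhoC (wR f V) J) ≫
        (DQPush.unitQ (f ∣_ V)).app ((rC (f ⁻¹ᵁ V).ι).obj J) := by
  have h : (DQPush.unitL f V).app ((HomotopyCategory.quotient X.Modules (ComplexShape.up ℤ)).obj J) ≫
      (DQPush.rpushRestrIso f V).hom.app (DerivedCategory.Qh.obj
        ((HomotopyCategory.quotient X.Modules (ComplexShape.up ℤ)).obj J)) =
      (DQPush.unitR f V).app ((HomotopyCategory.quotient X.Modules (ComplexShape.up ℤ)).obj J) :=
    (congr_app (Functor.rightDerivedNatTrans_fac _ _ (DQPush.unitL f V) (DQPush.unitR f V)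
      (HomotopyCategory.quasiIso X.Modules (ComplexShape.up ℤ)) (𝟙 _)) _).trans (Category.id_comp _)
  have hn := (DQPush.rpushRestrIso f V).hom.naturality ((DerivedCategory.quotientCompQhIso X.Modules).hom.app J)
  simp only [DQPush.unitL, DQPush.unitR, NatTrans.comp_app, Functor.whiskerRight_app, Functor.whiskerLeft_app,
    Functor.associator_hom_app, Functor.associator_inv_app, Category.comp_id, Category.id_comp] at h
  simp only [DQPush.unitQ, AcycDef.unitQ, Functor.map_comp, Category.assoc]
  erw [reassoc_of% hn, reassoc_of% h]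
  simp only [DQPush.pushKhRestrIso, Iso.trans_hom, NatTrans.comp_app, Functor.associator_hom_app,
    Functor.isoWhiskerLeft_hom, Functor.isoWhiskerRight_hom, Functor.whiskerLeft_app, Functor.whiskerRight_app,
    Iso.symm_hom, Functor.associator_inv_app, Category.comp_id, Category.id_comp, Category.assoc, DQCoh.rdIso,
    Iso.app_hom]
  have hinv : ∀ {A B : Scheme.{u}} (F : A.Modules ⥤ B.Modules) [F.Additive] [PreservesFiniteLimits F]
      [PreservesFiniteColimits F] (K : CochainComplex A.Modules ℤ),
      F.mapDerivedCategoryFactorsh.inv.app ((HomotopyCategory.quotient _ _).obj K) ≫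
        F.mapDerivedCategory.map ((DerivedCategory.quotientCompQhIso A.Modules).hom.app K) ≫
          F.mapDerivedCategoryFactors.hom.app K =
      DerivedCategory.Qh.map ((F.mapHomotopyCategoryFactors (ComplexShape.up ℤ)).hom.app K) ≫
        (DerivedCategory.quotientCompQhIso B.Modules).hom.app _ := fun F _ _ _ K => by
    rw [← Iso.app_inv, Iso.inv_comp_eq, Iso.app_hom, Functor.mapDerivedCategoryFactorsh_hom_app]
    simp [← Functor.map_comp_assoc]
  erw [← (DCoh.Rpush (f ∣_ V)).map_comp, ← (DCoh.Rpush (f ∣_ V)).map_comp, hinv]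
  have hV := Functor.mapDerivedCategoryFactorsh_hom_app (Scheme.Modules.restrictFunctor V.ι) ((pC f).obj J)
  refine (congrArg (_ ≫ ·) (congrArg (· ≫ _) hV)).trans ?_
  simp only [Category.assoc]
  erw [← Functor.map_comp_assoc, Iso.inv_hom_id_app, CategoryTheory.Functor.map_id, Category.id_comp]
  refine congrArg (_ ≫ ·) ?_
  erw [(DerivedCategory.quotientCompQhIso (V : Scheme.{u}).Modules).inv.naturality_assoc (rhoC (wR f V) J)]
  refine congrArg (_ ≫ ·) ?_
  have hu := (DerPush.rpushUnit (f ∣_ V)).naturality
    (((Scheme.Modules.restrictFunctor (f ⁻¹ᵁ V).ι).mapHomotopyCategoryFactors (ComplexShape.up ℤ)).hom.app J)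
  rw [(DCoh.Rpush (f ∣_ V)).map_comp]
  erw [← reassoc_of% hu]
  simp only [← Category.assoc]
  refine congrArg (· ≫ _) (congrArg (· ≫ _) ?_)
  refine ((congrArg (· ≫ _) (DerivedCategory.Qh.map_comp _ _).symm).trans (DerivedCategory.Qh.map_comp _ _).symm).trans ?_
  rw [Functor.comp_map]
  refine congrArg DerivedCategory.Qh.map ?_
  have hk : rhoC (wR f V) J =
      ((NatTrans.mapHomologicalComplex (RelPCS.pushRestrIso f V).hom (ComplexShape.up ℤ)).app J) :=
    HomologicalComplex.hom_ext _ _ fun n => (pushRestr_eq_rho f V (J.X n)).symm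
  rw [hk]
  simp [DQPush.khIso, Functor.mapHomotopyCategoryCompIso, Functor.mapHomotopyCategoryFactors]
  erw [Quotient.natTransLift_app, Quotient.natTransLift_app]
  simp only [Functor.whiskerRight_app]
  erw [CategoryTheory.Functor.map_id, Category.comp_id]
  refine congrArg _ (HomologicalComplex.hom_ext _ _ fun n => ?_)
  simp

end Groth.Agent.BCA
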