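import Groth.Agent.Dual3Nu.Main

/-!
Over an affine base a universal trace `Rf_* I ⟶ J` stays universal after tensoring with any complex of the base.
-/

set_option autoImplicit false
set_option backward.isDefEq.respectTransparency false
set_option backward.isDefEq.respectTransparency.types false
set_option linter.style.haveILetI false
set_option linter.unusedSectionVars false
set_option maxHeartbeats 1000000

universe u

open CategoryTheory Limits Pretriangulated AlgebraicGeometry ZeroObject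

attribute [local instance] HasDerivedCategory.standard

namespace Groth.Agent.BCA

open Groth.Agent.KFlat Groth.Agent.ProjForm Groth.Agent.FMTool Groth.Agent.PerfGen Groth.Agent.DCohShriek
open Groth.Agent.Dual3Nu (mid tau kap trz W WQ TriP CovEx unitShift)

variable {X Y : Scheme.{u}} [IsAffine Y] [CompactSpace X] [QuasiSeparatedSpace X] (f : X ⟶ Y)
  [QuasiCompact f] [QuasiSeparated f] [DCoh.HasRpush f]
  (I : CochainComplex X.Modules ℤ) [I.IsKInjective] (hIq : ∀ i, Coh.IsQCoh (I.homology i))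
  (J : CochainComplex Y.Modules ℤ) (hJ : DCoh.IsQCohD (DCoh.toD Y J)) (z : (pC f).obj I ⟶ J)

/-- universality of a trace -/
def Univ : Prop :=
  ∀ T : DCoh.D X, DCoh.IsQCohD T →
    Function.Bijective fun φ : T ⟶ (DerivedCategory.Q : _ ⥤ DCoh.D X).obj I =>
      (DCoh.Rpush f).map φ ≫ trz f I J z

include hIq hJ in
/-- **universality after tensoring** -/
theorem bijective_tensor (huniv : Univ f I J z)
    (hperf : ∀ P : DCoh.D X, DCoh.IsPerfect P → DCoh.IsPerfect ((DCoh.Rpush f).obj P))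
    (A : CochainComplex Y.Modules ℤ) (hA : ∀ i, Coh.IsQCoh (A.homology i)) (T : DCoh.D X) (hT : DCoh.IsQCohD T)
    [IsIso (mid f I ((resF Y).obj A))] :
    Function.Bijective fun x : T ⟶ (DerivedCategory.Q : _ ⥤ DCoh.D X).obj
        ((DCoh.tensorCx.obj I).obj ((qC f).obj ((resF Y).obj A))) =>
      (DCoh.Rpush f).map x ≫ inv (mid f I ((resF Y).obj A)) ≫
        (DerivedCategory.Q : _ ⥤ DCoh.D Y).map ((DCoh.tensorCx.map z).app ((resF Y).obj A)) := by
  haveI := KFlat.hasLpull f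
  haveI : DCoh.HasLTensorCx I := KFlat.hasLTensorCx I
  haveI : DCoh.HasLTensorCx ((pC f).obj I) := KFlat.hasLTensorCx _
  haveI : DCoh.HasLTensorCx J := KFlat.hasLTensorCx J
  have hI : DCoh.IsQCohD (DCoh.toD X I) := fun i => QC.isQCoh_of_iso (KFlat.hdIso I i).symm (hIq i)
  have hf : DCoh.RpushPreservesQCoh f := fun K hK => DQPush.isQCohD_rpush f hK
  haveI := isLeftAdjoint_rpushQ f hf
  let a := (DCoh.RpushQ f hf).rightAdjoint
  let adj : DCoh.RpushQ f hf ⊣ a := Adjunction.ofIsLeftAdjoint _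
  haveI : (DCoh.Rpush f).Additive := DCohShriek.additive_rpush f
  haveI : (DCoh.RpushQ f hf).Additive := ⟨fun {A B} {u v} =>
    ObjectProperty.hom_ext _ ((DCoh.Rpush f).map_add (f := u.hom) (g := v.hom))⟩
  haveI : a.Additive := adj.right_adjoint_additive
  let Φ : DCoh.DQCoh Y ⥤ DCoh.DQCoh Y := ObjectProperty.lift (DCoh.IsQCohD (X := Y))
    (ObjectProperty.ι _ ⋙ DCoh.LTensorCx J) fun E => DQCoh.isQCohD_LTensorCx J hJ _ E.property
  let pre : ∀ E : DCoh.DQCoh Y, (DCoh.Rpush f).obj ((W f I).obj E.obj) ⟶ (Φ.obj E).obj := fun E =>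
    haveI := Dual3Nu.isIso_tau f I hIq E.property
    inv ((tau f I).app E.obj) ≫ (kap f I J z).app E.obj
  have hpre : ∀ {E E' : DCoh.DQCoh Y} (φ : E ⟶ E'),
      (DCoh.Rpush f).map ((W f I).map φ.hom) ≫ pre E' = pre E ≫ (Φ.map φ).hom := by
    intro E E' φ
    haveI := Dual3Nu.isIso_tau f I hIq E.property
    haveI := Dual3Nu.isIso_tau f I hIq E'.property
    have h1 : (DCoh.LTensorCx ((pC f).obj I)).map φ.hom ≫ (tau f I).app E'.obj =
        (tau f I).app E.obj ≫ (DCoh.Rpush f).map ((W f I).map φ.hom) := (tau f I).naturality φ.hom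
    have h2 : (DCoh.Rpush f).map ((W f I).map φ.hom) ≫ inv ((tau f I).app E'.obj) =
        inv ((tau f I).app E.obj) ≫ (DCoh.LTensorCx ((pC f).obj I)).map φ.hom := by
      rw [IsIso.eq_inv_comp, ← Category.assoc]
      erw [← h1]
      rw [Category.assoc, IsIso.hom_inv_id, Category.comp_id]
    simp only [pre, Category.assoc]
    erw [reassoc_of% h2]
    rw [(kap f I J z).naturality φ.hom]
    rfl
  let ν : WQ f I hI ⋙ ObjectProperty.ι _ ⟶ Φ ⋙ a ⋙ ObjectProperty.ι _ :=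
    { app := fun E => (adj.homEquiv ((WQ f I hI).obj E) (Φ.obj E) (ObjectProperty.homMk (pre E))).hom
      naturality := fun E E' φ => by
        show ((WQ f I hI).map φ ≫ _ : (WQ f I hI).obj E ⟶ a.obj (Φ.obj E')).hom = (_ ≫ a.map (Φ.map φ)).hom
        rw [← Adjunction.homEquiv_naturality_left, ← Adjunction.homEquiv_naturality_right]
        exact congrArg (fun t => (adj.homEquiv _ _ t).hom) (ObjectProperty.hom_ext _ (hpre φ)) }
  -- transposition
  have key : ∀ (A : CochainComplex Y.Modules ℤ)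
      (hq : DCoh.IsQCohD ((DerivedCategory.Q : _ ⥤ DCoh.D Y).obj A)) (T : DCoh.D X),
      haveI := Dual3Nu.isIso_tau f I hIq hq
      (fun t : T ⟶ (W f I).obj ((DerivedCategory.Q : _ ⥤ DCoh.D Y).obj A) =>
        (DCoh.Rpush f).map t ≫ inv ((tau f I).app ((DerivedCategory.Q : _ ⥤ DCoh.D Y).obj A)) ≫
          (kap f I J z).app ((DerivedCategory.Q : _ ⥤ DCoh.D Y).obj A)) =
      fun t => DCohShriek.tr adj (t ≫ ν.app ⟨_, hq⟩) := by
    intro A hq T
    funext t
    rw [tr_comp]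
    refine congrArg (_ ≫ ·) ?_
    symm
    show (DCoh.Rpush f).map (adj.homEquiv ((WQ f I hI).obj ⟨_, hq⟩) (Φ.obj ⟨_, hq⟩) (ObjectProperty.homMk (pre ⟨_, hq⟩))).hom ≫ _ = _
    have h := congrArg InducedCategory.Hom.hom
      ((adj.homEquiv ((WQ f I hI).obj ⟨_, hq⟩) (Φ.obj ⟨_, hq⟩)).symm_apply_apply
        (ObjectProperty.homMk (pre ⟨_, hq⟩)))
    rw [Adjunction.homEquiv_counit] at h
    exact h
  let P : ObjectProperty (DCoh.D Y) := fun N =>
    ∃ h : DCoh.IsQCohD N, ∀ n : ℤ, IsIso (ν.app ⟨N⟦n⟧, isQCohD_shift h n⟩)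
  let mkIso : ∀ {A B : DCoh.DQCoh Y}, (A.obj ≅ B.obj) → (A ≅ B) := fun e =>
    (ObjectProperty.fullyFaithfulι _).preimageIso e
  have htr : ∀ {A B : DCoh.DQCoh Y}, (A.obj ≅ B.obj) → IsIso (ν.app A) → IsIso (ν.app B) :=
    fun e h => (NatTrans.isIso_app_iff_of_iso ν (mkIso e)).1 h
  haveI : P.IsClosedUnderIsomorphisms := ⟨fun {A B} e ⟨h, h'⟩ =>
    ⟨(DCoh.IsQCohD (X := Y)).prop_of_iso e h,
      fun n => htr ((shiftFunctor _ n).mapIso e) (h' n)⟩⟩
  have hqF : ∀ K, DCoh.IsQCohD ((WQ f I hI ⋙ ObjectProperty.ι _).obj K) := fun K => ((WQ f I hI).obj K).property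
  have hqG : ∀ K, DCoh.IsQCohD ((Φ ⋙ a ⋙ ObjectProperty.ι _).obj K) := fun K => (a.obj _).property
  have hF : TriP (WQ f I hI ⋙ ObjectProperty.ι (DCoh.IsQCohD (X := X))) :=
    (((Dual3Nu.triP_of_isTriangulated (ObjectProperty.ι (DCoh.IsQCohD (X := Y)))).comp
      (Dual3Nu.triP_Lpull f)).comp (Dual3Nu.triP_LTensorCx I))
  have hG : ∀ S : DCoh.D X, DCoh.IsQCohD S → CovEx (Φ ⋙ a ⋙ ObjectProperty.ι _) S := by
    intro S hS T hT
    obtain ⟨c, hc⟩ := ((Dual3Nu.triP_of_isTriangulated (ObjectProperty.ι (DCoh.IsQCohD (X := Y)))).comp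
      (Dual3Nu.triP_LTensorCx J)) T hT
    refine ⟨?_, fun t ht => ?_⟩
    · show (a.map (Φ.map T.mor₁)).hom ≫ (a.map (Φ.map T.mor₂)).hom = 0
      refine (congrArg InducedCategory.Hom.hom (a.map_comp _ _).symm).trans ?_
      have h0 : Φ.map T.mor₁ ≫ Φ.map T.mor₂ = 0 :=
        ObjectProperty.hom_ext _ (comp_distTriang_mor_zero₁₂ _ hc)
      rw [h0, Functor.map_zero]
      rfl
    · have ht' : DCohShriek.tr adj t ≫ (Φ.map T.mor₂).hom = 0 := by
        rw [← tr_map]
        refine (congrArg (DCohShriek.tr adj) (show t ≫ (a.map (Φ.map T.mor₂)).hom = 0 from ht)).trans ?_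
        simp [DCohShriek.tr]
      obtain ⟨s', hs'⟩ := Triangle.coyoneda_exact₂ _ hc (DCohShriek.tr adj t) ht'
      obtain ⟨s, hs⟩ := (tr_bijective adj hS (Φ.obj T.obj₁)).2 s'
      refine ⟨s, (tr_bijective adj hS _).1 ?_⟩
      show DCohShriek.tr adj (s ≫ (a.map (Φ.map T.mor₁)).hom) = _
      rw [tr_map, hs]
      exact hs'.symm
  have hP : Localizing.{u} P := by
    constructor
    · rintro N ⟨h, h'⟩ m
      exact ⟨isQCohD_shift h m, fun n => htr ((shiftFunctorAdd (DCoh.D _) m n).app N) (h' (m + n))⟩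
    · rintro T hT ⟨h₁, h₁'⟩ ⟨h₂, h₂'⟩
      have h₃ := isQCohD_obj₃ T hT h₁ h₂
      refine ⟨h₃, fun n => ?_⟩
      have hT' := Triangle.shift_distinguished T hT n
      let A₁ : DCoh.DQCoh Y := ⟨T.obj₁⟦n⟧, isQCohD_shift h₁ n⟩
      let A₂ : DCoh.DQCoh Y := ⟨T.obj₂⟦n⟧, isQCohD_shift h₂ n⟩
      let u : A₁ ⟶ A₂ := ObjectProperty.homMk ((Triangle.shiftFunctor _ n).obj T).mor₁
      obtain ⟨A₃, v, w, hA⟩ := distinguished_cocone_triangle u
      have hA' := (ObjectProperty.ι (DCoh.IsQCohD (X := Y))).map_distinguished _ hA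
      let e : A₃.obj ≅ T.obj₃⟦n⟧ := Triangle.π₃.mapIso
        (isoTriangleOfIso₁₂ _ _ hA' hT' (Iso.refl _) (Iso.refl _)
          ((Category.comp_id _).trans (Category.id_comp _).symm))
      let s : ∀ (N : DCoh.D Y) (hN : DCoh.IsQCohD N),
          ((⟨N⟦n⟧, isQCohD_shift hN n⟩ : DCoh.DQCoh Y)⟦(1 : ℤ)⟧).obj ≅ N⟦n + 1⟧ := fun N hN =>
        ((ObjectProperty.ι (DCoh.IsQCohD (X := Y))).commShiftIso (1 : ℤ)).app _ ≪≫
          ((shiftFunctorAdd (DCoh.D _) n 1).app N).symm
      refine htr (A := A₃) e ?_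
      refine isIso_of_bijective_perfect (hqF _) (hqG _) _ fun S hS => ?_
      have hb : ∀ {A : DCoh.DQCoh Y}, IsIso (ν.app A) →
          Function.Bijective fun x : S ⟶ _ => x ≫ ν.app A := fun {A} hA =>
        ⟨fun x y h => (@cancel_mono _ _ _ _ _ (ν.app A) inferInstance _ _).1 h,
          fun y => ⟨y ≫ inv (ν.app A), by simp⟩⟩
      exact Dual3Nu.bijective_app₃ ν S (hF.covEx S) (hG S (isQCohD_of_isPerfect hS)) _ hA
        (hb (h₁' n)) (hb (h₂' n)) (hb (htr (s _ h₁).symm (h₁' (n + 1)))) (hb (htr (s _ h₂).symm (h₂' (n + 1))))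
    · intro κ N _ hN
      have hq : DCoh.IsQCohD (∐ N) := (localizing_qcohD _).coprod N fun k => (hN k).1
      refine ⟨hq, fun n => ?_⟩
      let N' : κ → DCoh.DQCoh Y := fun k => ⟨(N k)⟦n⟧, isQCohD_shift (hN k).1 n⟩
      haveI := DCohShriek.preservesCoproducts_ι Y κ
      haveI := DCohShriek.preservesCoproducts_ι X κ
      haveI := PerfGen.hasCoproducts_D' Y κ
      haveI := PerfGen.hasCoproducts_D' X κ
      haveI := DCohShriek.preservesCoproducts_adjoint f (hf := hf) adj hperf κ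
      haveI : PreservesColimitsOfShape (Discrete κ) Φ :=
        Dual3Nu.preservesShape_lift (DCoh.LTensorCx J) _ κ fun K =>
          Dual3Nu.preservesCoproduct_LTensor J fun t => (K t).obj
      haveI : PreservesColimitsOfShape (Discrete κ) (WQ f I hI) :=
        Dual3Nu.preservesShape_lift (W f I) _ κ fun K => by
          haveI := Dual3Nu.preservesCoproduct_Lpull f (fun t => (K t).obj)
          haveI := Dual3Nu.preservesCoproduct_LTensor I (fun t => (DCoh.Lpull f).obj (K t).obj)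
          haveI : PreservesColimit ((Discrete.functor fun t => (K t).obj) ⋙ DCoh.Lpull f) (DCoh.LTensorCx I) :=
            preservesColimit_of_iso_diagram (K₁ := Discrete.functor fun t => (DCoh.Lpull f).obj (K t).obj) _
              (Discrete.natIso fun ⟨t⟩ => Iso.refl _)
          infer_instance
      refine htr (A := ∐ N') ?_ (Dual3Nu.isIso_app_sigma ν N' fun k => (hN k).2 n)
      exact PreservesCoproduct.iso (ObjectProperty.ι _) N' ≪≫
        (PreservesCoproduct.iso (shiftFunctor (DCoh.D Y) n) N).symm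
  have hO : P (DCoh.inD Y (Coh.structureModule Y)) := by
    refine ⟨isQCohD_of_isPerfect (PerfPush.isPerfect_unit _), fun n => ?_⟩
    refine htr (A := Dual3Nu.unitQn Y n)
      (((DerivedCategory.Q (C := Y.Modules)).commShiftIso n).app (DerSch.unitCx Y) ≪≫
        (shiftFunctor _ n).mapIso (Dual3Nu.unitIso Y).symm) ?_
    refine isIso_of_bijective_perfect (hqF _) (hqG _) _ fun S hS => ?_
    have hSq : DCoh.IsQCohD S := isQCohD_of_isPerfect hS
    haveI : IsIso ((tau f I).app ((DerivedCategory.Q : _ ⥤ DCoh.D Y).obj (unitShift Y n))) :=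
      Dual3Nu.isIso_tau f I hIq (Dual3Nu.unitQn Y n).property
    have hb := Dual3Nu.bijective_unitShift f I J z hIq huniv n S hSq
    have hb' := (key (unitShift Y n) (Dual3Nu.unitQn Y n).property S) ▸ hb
    exact (Function.Bijective.of_comp_iff' (tr_bijective adj hSq _) _).1 hb'
  have hq : DCoh.IsQCohD ((DerivedCategory.Q : _ ⥤ DCoh.D Y).obj A) := fun i =>
    QC.isQCoh_of_iso (KFlat.hdIso A i).symm (hA i)
  haveI hν : IsIso (ν.app ⟨_, hq⟩) := by
    obtain ⟨h, h'⟩ := le_of_gen (localizing_qcohD _) (cpt_of_perfect (PerfPush.isPerfect_unit _))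
      (gen_unit_affine _) hP hO _ hq
    exact htr ((shiftFunctorZero (DCoh.D Y) ℤ).app _) (h' 0)
  haveI := Dual3Nu.isIso_tau f I hIq hq
  have hb : Function.Bijective fun t : T ⟶ (W f I).obj ((DerivedCategory.Q : _ ⥤ DCoh.D Y).obj A) =>
      (DCoh.Rpush f).map t ≫ inv ((tau f I).app ((DerivedCategory.Q : _ ⥤ DCoh.D Y).obj A)) ≫
        (kap f I J z).app ((DerivedCategory.Q : _ ⥤ DCoh.D Y).obj A) := by
    rw [key A hq T]
    exact (tr_bijective adj hT _).comp (asIso (ν.app ⟨_, hq⟩)).homToEquiv.bijective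
  have e1 : inv ((tau f I).app ((DerivedCategory.Q : _ ⥤ DCoh.D Y).obj A)) =
      (DCoh.Rpush f).map ((Dual3Nu.lR f I).hom.app A) ≫ inv (mid f I ((resF Y).obj A)) ≫
        (Dual3Nu.lZ ((pC f).obj I)).inv.app A := by
    refine IsIso.inv_eq_of_hom_inv_id ?_
    rw [Dual3Nu.tau_app]
    simp only [Dual3Nu.tau₀, Category.assoc]
    rw [← Functor.map_comp_assoc, Iso.inv_hom_id_app]
    erw [CategoryTheory.Functor.map_id, Category.id_comp, IsIso.hom_inv_id_assoc, Iso.hom_inv_id_app]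
    rfl
  have hfun : (fun x : T ⟶ (DerivedCategory.Q : _ ⥤ DCoh.D X).obj
        ((DCoh.tensorCx.obj I).obj ((qC f).obj ((resF Y).obj A))) =>
      (DCoh.Rpush f).map x ≫ inv (mid f I ((resF Y).obj A)) ≫
        (DerivedCategory.Q : _ ⥤ DCoh.D Y).map ((DCoh.tensorCx.map z).app ((resF Y).obj A))) =
      ((Dual3Nu.lZ J).app A).homToEquiv ∘ (fun t : T ⟶ (W f I).obj ((DerivedCategory.Q : _ ⥤ DCoh.D Y).obj A) =>
        (DCoh.Rpush f).map t ≫ inv ((tau f I).app ((DerivedCategory.Q : _ ⥤ DCoh.D Y).obj A)) ≫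
          (kap f I J z).app ((DerivedCategory.Q : _ ⥤ DCoh.D Y).obj A)) ∘
        ((Dual3Nu.lR f I).app A).symm.homToEquiv := by
    funext x
    rw [e1, Dual3Nu.kap_app]
    simp [Dual3Nu.kap₀, Functor.map_comp]
  rw [hfun]
  exact (Equiv.bijective _).comp (hb.comp (Equiv.bijective _))

end Groth.Agent.BCA
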